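import Cfsg.Agent.GAL.Rows
import Cfsg.Agent.S0920
import Cfsg.Agent.S0953
import Cfsg.Agent.Blocks.BrauerHom
import Cfsg.Agent.Characters.Linear
import Cfsg.Agent.HKS.Glauberman_m3
import Cfsg.Agent.S0205
import Cfsg.Agent.H627.BR.Grp
import Cfsg.Agent.GAL.Two.Red_m3
import Cfsg.Agent.H793.PC.Pi_m3
import Cfsg.Agent.H620.PNorm
import Cfsg.Agent.ODD.Red.Cl_m3
import Cfsg.Agent.S0933
import Cfsg.Agent.S0936
import Cfsg.Agent.H611.CoverPrincipal
import Cfsg.Agent.H386.Factor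
import Cfsg.Agent.Characters.CCBasic
import Cfsg.Agent.CharactersDeep.CosetAverage
import Cfsg.Agent.Lib.SolvableNormalP
import Cfsg.Agent.H113.NormTwoChar
import Cfsg.Agent.KFacts.MM.OutC_m3
import Cfsg.Agent.H72.ModelFacts
import Cfsg.Agent.H161.RowReeJ1
import Cfsg.Agent.OddHalf.D4.Spor.J1Out
import Cfsg.Agent.KFacts.J2.SheetX
import Cfsg.Agent.OddHalf.D8.RowJ3
import Cfsg.Agent.Lib.FastPerm
import Cfsg.Agent.KFacts.HN.Sheet
import Cfsg.Agent.H895.Pron.SuzB
import Cfsg.Agent.KFacts.SuzInvol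
import Cfsg.Agent.Lib.ListFast
import Cfsg.Agent.FastGrp
import Cfsg.Agent.Prune
set_option linter.all false

section
prune_inst 0x7ff9fffb1de8a3ffdfff7e3ffef5dffff1ecefffffdffbfbffedfb9fafdf6b2bfde5ab85ffe852ff8ef662b6b0f87b53ffffdeffef6bfc7ffffd5ff45ffbffdffdf6bf8931d78c3e1f382fff6bf17fce6f3ffffffffffffffffffffffffffffffffffbfeffff

-- part: GAL/Red/Lin
section
prune_inst 0x60004e2071c000000818000080000060000000020040000000400400090d40202506a00062000510188480504008000002000000400000000a0008000000000010000480811c0008400000002000010000000000000000000000000000000000004010000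
set_option linter.all false
open scoped Cfsg.Agent.FastGrp

/-!
# Linear characters of the normalizer of a Sylow 2-subgroup (helper20, GAL)

* `sub_one_of_fix` : the values of a `σ`-fixed character at elements of odd order are `0` or `1` modulo `M`;
* `exists_odd_of_hom` : a character of odd degree which is congruent to a linear character of `N_G(P)` on `C_G(P)`;
* `exists_moved` : if `DG P` holds and the linear character is nontrivial and trivial on `P`, it is moved by `σ`;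
* `exists_hom_of_odd` : a nontrivial linear character which is trivial on a proper normal subgroup of odd index.
-/

set_option autoImplicit false

namespace Cfsg.Agent.GAL

open Cfsg Cfsg.Agent.H601.K4 Cfsg.Agent.TAB.Use Cfsg.Agent.ODD.Red Cfsg.Agent.Characters
open Cfsg.Agent.Characters.Core Cfsg.Agent.Blocks.Local Cfsg.Agent.Blocks.Basic Subgroup

universe u

variable {G : Type u} [Group G] [Finite G] {M : Ideal AlgInt}

theorem odd_sub_one (hM : IsPModular 2 M) {n : ℕ} (hn : ¬ 2 ∣ n) : MemLocalIdeal M ((n : ℂ) - 1) := by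
  have := isPrime_of_isPModular hM
  obtain ⟨k, rfl⟩ := odd_iff'.2 hn
  have h1 : ((2 * k + 1 : ℕ) : ℂ) - 1 = ((2 * k : ℕ) : ℂ) := by
    push_cast
    ring
  rw [h1, memLocalIdeal_natCast_iff hM]
  exact Dvd.intro k rfl

theorem deg_sub_one (hM : IsPModular 2 M) {χ : G → ℂ} (hχ : OddIrr χ) : MemLocalIdeal M (χ 1 - 1) := by
  rw [irr_one_eq_charDegree hχ.1]
  exact odd_sub_one hM hχ.2

theorem ring_char (hM : IsPModular 2 M) {χ : G → ℂ} (hχ : IsCharacter G χ) (g : G) : MemLocalRing M (χ g) := by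
  have := isPrime_of_isPModular hM
  exact memLocalRing_of_isIntegral (GaloisBasic.isIntegral_apply hχ g)

theorem sq_congr (hM : IsPModular 2 M) {χ : G → ℂ} (hχ : IsCharacter G χ) (g : G) :
    MemLocalIdeal M (χ g ^ 2 - χ (g ^ 2)) := by
  classical
  have := isPrime_of_isPModular hM
  obtain ⟨d, μ, -, h1, h2⟩ := GaloisBasic.isCharacter_exists_fin_pow hχ g (Nat.card_pos (α := G)).ne'
    pow_card_eq_one'
  have h3 := h2 1
  rw [pow_one] at h3
  rw [h3, h2 2]
  have hμ : ∀ i, MemLocalRing M (μ i) := fun i => memLocalRing_of_isIntegral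
    (IsIntegral.of_pow (Nat.card_pos (α := G)) (by rw [h1 i]; exact isIntegral_one))
  simp only [pow_one]
  induction (Finset.univ : Finset (Fin d)) using Finset.induction_on with
  | empty => simpa using memLocalIdeal_zero
  | insert a s ha ih =>
    rw [Finset.sum_insert ha, Finset.sum_insert ha]
    have h4 : (μ a + ∑ i ∈ s, μ i) ^ 2 - (μ a ^ 2 + ∑ i ∈ s, μ i ^ 2) =
        ((∑ i ∈ s, μ i) ^ 2 - ∑ i ∈ s, μ i ^ 2) + ((2 : ℕ) : ℂ) * (μ a * ∑ i ∈ s, μ i) := by
      push_cast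
      ring
    rw [h4]
    exact memLocalIdeal_add ih (memLocalIdeal_mul_right (memLocalIdeal_p hM)
      (memLocalRing_mul (hμ a) (memLocalRing_sum fun i _ => hμ i)))

/-- the values of a `σ`-fixed character at the elements of odd order -/
theorem sub_one_of_fix (hM : IsPModular 2 M) {σ : ℂ ≃+* ℂ} (hσ : Sig σ) {χ : G → ℂ} (hχ : IsCharacter G χ)
    (hf : Fix σ χ) {y : G} (hy : Odd (orderOf y)) (h0 : ¬ MemLocalIdeal M (χ y)) : MemLocalIdeal M (χ y - 1) := by
  have := isPrime_of_isPModular hM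
  have h1 := sq_congr hM hχ y
  rw [← map_odd hσ hχ hy, hf y, show χ y ^ 2 - χ y = χ y * (χ y - 1) by ring] at h1
  exact (memLocalIdeal_or_of_mul (ring_char hM hχ y) (memLocalRing_sub (ring_char hM hχ y) memLocalRing_one)
    h1).resolve_left h0

/-- **a character of odd degree attached to a linear character of the normalizer** -/
theorem exists_odd_of_hom (hM : IsPModular 2 M) (P : Sylow 2 G) (β : normalizer ((P : Subgroup G) : Set G) →* ℂˣ) :
    ∃ χ : G → ℂ, OddIrr χ ∧ ∀ x : normalizer ((P : Subgroup G) : Set G),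
      (x : G) ∈ centralizer ((P : Subgroup G) : Set G) → MemLocalIdeal M (χ x - β x) := by
  have := fact2
  have := isPrime_of_isPModular hM
  have hξ := Linear.isIrrCharacter_hom β
  obtain ⟨χ', hχ'⟩ := Blocks.BrauerHom.exists_irr_brauer hM P.isPGroup' (centralizer_le_normalizer _) le_rfl hξ
  have hB := isPBlock_blockOf (M := M) χ'
  obtain ⟨g, hg⟩ := S0906.result 2 M hM _ hB
  have h1 : brauerCentralChar (P : Subgroup G) (normalizer ((P : Subgroup G) : Set G)) (fun x => (β x : ℂ)) g ≠ 0 := by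
    intro h0
    have h2 := hχ' g
    rw [h0, zero_sub, memLocalIdeal_neg_iff] at h2
    exact hg.2.2 χ' (mem_blockOf_self χ') h2
  have h2 : ∃ h : G, IsConj g h ∧ h ∈ centralizer ((P : Subgroup G) : Set G) := by
    by_contra hcon
    apply h1
    rw [brauerCentralChar_def]
    refine finsum_mem_of_eqOn_zero fun h hh => ?_
    exact absurd ⟨h, hh⟩ hcon
  obtain ⟨h, hgh, hh⟩ := h2
  have hD : IsDefectGroup 2 M (blockOf M (χ' : G → ℂ)) (P : Subgroup G) :=
    isDefectGroup_iff.2 ⟨h, isDefectClass_isConj hgh hg, Blocks.FullDefect.isSylowCentralizer_of_mem P hh⟩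
  obtain ⟨χ, hχ, hd⟩ := S0953.exists_degree_of_isDefectGroup hM P hB hD
  have hodd : OddIrr (χ : G → ℂ) := ⟨χ.2, hd⟩
  refine ⟨χ, hodd, fun x hx => ?_⟩
  let P' : Sylow 2 (normalizer ((P : Subgroup G) : Set G)) := P.subtype le_normalizer
  have hle : (P' : Subgroup _) ≤ centralizer ({x} : Set (normalizer ((P : Subgroup G) : Set G))) := by
    intro y hy
    rw [mem_centralizer_singleton_iff]
    exact Subtype.ext (mem_centralizer_iff.1 hx y hy)
  have hcard : Nat.card (P : Subgroup G) = 2 ^ (Nat.card (centralizer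
      ({x} : Set (normalizer ((P : Subgroup G) : Set G))))).factorization 2 := by
    rw [← (P'.subtype hle).card_eq_multiplicity]
    have e1 : Nat.card (P'.subtype hle) = Nat.card P' := Nat.card_congr (subgroupOfEquivOfLe hle).toEquiv
    have e2 : Nat.card P' = Nat.card P := Nat.card_congr (subgroupOfEquivOfLe le_normalizer).toEquiv
    rw [e1, e2]
  have h3 := (S0920.brauerCentralChar_eq (P : Subgroup G) _ rfl P.isPGroup' x hle hcard).2.2 ⟨_, hξ⟩
  have h4 := memLocalIdeal_sub_trans (hχ' x) (hχ x)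
  have h5 : brauerCentralChar (P : Subgroup G) (normalizer ((P : Subgroup G) : Set G)) (fun x => (β x : ℂ)) x =
      centralChar (fun x => (β x : ℂ)) x := h3
  rw [h5, centralChar_def, centralChar_def] at h4
  simp only [map_one, Units.val_one, div_one] at h4
  have ha : ¬ 2 ∣ (centralizer ({(x : G)} : Set G)).index := Blocks.FullDefect.not_dvd_index P hx
  have hb : ¬ 2 ∣ (centralizer ({x} : Set (normalizer ((P : Subgroup G) : Set G)))).index :=
    fun h => P'.not_dvd_index (h.trans (index_dvd_of_le hle))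
  set a := (centralizer ({(x : G)} : Set G)).index
  set b := (centralizer ({x} : Set (normalizer ((P : Subgroup G) : Set G)))).index
  have hβ : MemLocalRing M (β x : ℂ) := ring_char hM (isIrr_isCharacter hξ) x
  have hχx := ring_char hM (isIrr_isCharacter χ.2) (x : G)
  have hχ1 := ring_char hM (isIrr_isCharacter χ.2) 1
  have h0 := irr_one_ne_zero χ.2
  have h6 : (χ : G → ℂ) x - β x = -((χ : G → ℂ) 1 * (b * (β x : ℂ) - a * (χ : G → ℂ) x / (χ : G → ℂ) 1)) +
      (-(((a : ℂ) - 1) * (χ : G → ℂ) x) + (((χ : G → ℂ) 1 - 1) * (b * (β x : ℂ)) + ((b : ℂ) - 1) * (β x : ℂ))) := by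
    field_simp
    ring
  rw [h6]
  refine memLocalIdeal_add (memLocalIdeal_neg (memLocalIdeal_mul_left hχ1 h4)) (memLocalIdeal_add
    (memLocalIdeal_neg (memLocalIdeal_mul_right (odd_sub_one hM ha) hχx)) (memLocalIdeal_add
    (memLocalIdeal_mul_right (deg_sub_one hM hodd) (memLocalRing_mul (memLocalRing_natCast _) hβ))
    (memLocalIdeal_mul_right (odd_sub_one hM hb) hβ)))

/-- the elements of `N_G(P)` -/
theorem exists_decomp_norm (P : Sylow 2 G) {h : G} (hh : h ∈ normalizer ((P : Subgroup G) : Set G)) :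
    ∃ u ∈ (P : Subgroup G), ∃ y ∈ zpowers h, Odd (orderOf y) ∧ h = u * y := by
  have := fact2
  obtain ⟨u, y, h1, -, h3, h4⟩ := H618.Sigma.exists_decomp (⟨h, mem_zpowers h⟩ : zpowers h)
  refine ⟨u, ?_, y, y.2, by rwa [orderOf_coe], (congrArg Subtype.val h1).symm⟩
  obtain ⟨j, hj⟩ := h3
  refine H627.BR.mem_of_pel P ⟨j, ?_⟩ fun x hx => (mem_normalizer_iff.1 (zpowers_le.2 hh u.2) x).1 hx
  rw [← hj, ← orderOf_coe, pow_orderOf_eq_one]

/-- **a moved character** -/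
theorem exists_moved (hM : IsPModular 2 M) (P : Sylow 2 G) (hD : DG P)
    (β : normalizer ((P : Subgroup G) : Set G) →* ℂˣ)
    (hP : ∀ x : normalizer ((P : Subgroup G) : Set G), (x : G) ∈ (P : Subgroup G) → β x = 1) (hβ : ∃ x, β x ≠ 1) :
    ∃ χ : G → ℂ, OddIrr χ ∧ (∀ x : normalizer ((P : Subgroup G) : Set G),
      (x : G) ∈ centralizer ((P : Subgroup G) : Set G) → MemLocalIdeal M (χ x - β x)) ∧
      ∀ σ, Sig σ → ¬ Fix σ χ := by
  have := fact2
  have := isPrime_of_isPModular hM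
  obtain ⟨χ, h1, h2⟩ := exists_odd_of_hom hM P β
  refine ⟨χ, h1, h2, fun σ hσ hf => ?_⟩
  obtain ⟨x, hx⟩ := hβ
  obtain ⟨u, hu, y, hy, ho, hxy⟩ := exists_decomp_norm P x.2
  have hyN : y ∈ normalizer ((P : Subgroup G) : Set G) := zpowers_le.2 x.2 hy
  have h3 : x = ⟨u, le_normalizer hu⟩ * ⟨y, hyN⟩ := Subtype.ext hxy
  rw [h3, map_mul, hP _ hu, one_mul] at hx
  apply hx
  have h4 : MemLocalIdeal M (χ y - β ⟨y, hyN⟩) := h2 ⟨y, hyN⟩ (hD y hyN ho)
  have h5 : (β ⟨y, hyN⟩ : ℂ) ^ orderOf y = 1 := by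
    rw [← Units.val_pow_eq_pow_val, ← map_pow, ← orderOf_mk y hyN, pow_orderOf_eq_one, map_one, Units.val_one]
  have hβR : MemLocalRing M (β ⟨y, hyN⟩ : ℂ) := ring_char hM (isIrr_isCharacter (Linear.isIrrCharacter_hom β)) _
  have h6 : ¬ MemLocalIdeal M (χ y) := by
    rw [memLocalIdeal_iff_of_sub h4]
    intro h
    have h7 := memLocalIdeal_pow h (orderOf_pos y).ne'
    rw [h5] at h7
    exact not_memLocalIdeal_one h7
  have h7 := sub_one_of_fix hM hσ (isIrr_isCharacter h1.1) hf ho h6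
  apply Units.ext
  exact H700.PrinCrit.eq_one_of_sub_mem hM (odd_iff'.1 ho) h5
    (memLocalIdeal_sub_trans (memLocalIdeal_sub_comm h4) h7)

/-- a nontrivial linear character, trivial on a proper normal subgroup of odd index -/
theorem exists_hom_of_odd (L : Subgroup G) [L.Normal] (hL : ¬ 2 ∣ L.index) (hne : L ≠ ⊤) :
    ∃ β : G →* ℂˣ, (∀ x ∈ L, β x = 1) ∧ ∃ x, β x ≠ 1 := by
  have : Nontrivial (G ⧸ L) := QuotientGroup.nontrivial_iff.2 hne
  obtain ⟨f, x, hx⟩ := HKS.Glauberman.exists_hom_ne (G ⧸ L) (S0205.result (odd_iff'.2 hL))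
  obtain ⟨g, rfl⟩ := QuotientGroup.mk_surjective x
  refine ⟨f.comp (QuotientGroup.mk' L), fun y hy => ?_, g, hx⟩
  show f (y : G ⧸ L) = 1
  rw [(QuotientGroup.eq_one_iff y).2 hy, map_one]

end Cfsg.Agent.GAL
end

-- part: GAL/Red/Prod
section
prune_inst 0x40000620150002000018001002000040300000020040000100440502000000002006000128800710900004502008000002100100403800000a000800000000208002008280080004240008002003080800000000000000000000000000000000000000000
set_option linter.all false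
open scoped Cfsg.Agent.FastGrp

/-!
# The factors of a nonabelian minimal normal subgroup, characters (helper20, GAL)

* `fix_of_ff` : if `FF` holds for all factors, the `P`-invariant odd characters of `B₀(N)` are fixed by `σ`;
* `moved_of_not_ff` : the converse.
-/

set_option autoImplicit false

namespace Cfsg.Agent.GAL

open Cfsg Cfsg.Agent.H601.K4 Cfsg.Agent.TAB.Use Cfsg.Agent.ODD.Red Cfsg.Agent.Characters
open Cfsg.Agent.Characters.Core Cfsg.Agent.Blocks.Local Cfsg.Agent.Blocks.Basic Subgroup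
open Cfsg.Agent.H803.S74 Cfsg.Agent.H713

universe u

theorem prod_sub_one {M : Ideal AlgInt} [M.IsPrime] {ι : Type*} (s : Finset ι) {f : ι → ℂ}
    (h : ∀ i ∈ s, MemLocalIdeal M (f i - 1)) : MemLocalIdeal M (∏ i ∈ s, f i - 1) := by
  classical
  induction s using Finset.induction_on with
  | empty => simpa using memLocalIdeal_zero
  | insert a s ha ih =>
    rw [Finset.prod_insert ha]
    have h1 := h a (Finset.mem_insert_self a s)
    have h2 := ih fun i hi => h i (Finset.mem_insert_of_mem hi)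
    have h3 : MemLocalRing M (f a) := (memLocalRing_iff_of_sub h1).2 memLocalRing_one
    rw [show f a * ∏ i ∈ s, f i - 1 = f a * (∏ i ∈ s, f i - 1) + (f a - 1) by ring]
    exact memLocalIdeal_add (memLocalIdeal_mul_left h3 h2) h1

/-- the criterion for the principal block, with the value `1` -/
theorem inB0_iff_one {G : Type u} [Group G] [Finite G] (P : Sylow 2 G) {M : Ideal AlgInt} (hM : IsPModular 2 M)
    {χ : G → ℂ} (hχ : OddIrr χ) :
    InB0 χ ↔ ∀ y ∈ centralizer ((P : Subgroup G) : Set G), Odd (orderOf y) → MemLocalIdeal M (χ y - 1) := by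
  have := isPrime_of_isPModular hM
  rw [inB0_iff P hM hχ]
  exact ⟨fun h y hy ho => memLocalIdeal_sub_trans (h y hy ho) (deg_sub_one hM hχ),
    fun h y hy ho => memLocalIdeal_sub_trans (h y hy ho) (memLocalIdeal_sub_comm (deg_sub_one hM hχ))⟩

theorem oddIrr_one (G : Type u) [Group G] : OddIrr (fun _ : G => (1 : ℂ)) :=
  ⟨isIrrCharacter_one, by rw [charDegree_of_eq (n := 1) (by simp)]; norm_num⟩

theorem inB0_one (G : Type u) [Group G] : InB0 (fun _ : G => (1 : ℂ)) := by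
  intro M hM _
  have := isPrime_of_isPModular hM
  exact sameBlock_refl _

variable {G : Type u} [Group G] [Finite G] {N : Subgroup G} [N.Normal] {m : ℕ} {T : Fin m → Subgroup G}
  {e : N ≃* ∀ i, T i}

omit [Finite G] [N.Normal] in
theorem val_single (h : Sys N T e) {θ : N → ℂ} {f : ∀ i, T i → ℂ} (hf : ∀ n, θ n = ∏ i, f i (e n i)) (i : Fin m)
    (t : T i) : θ ⟨t, h.le i t.2⟩ = f i t * ∏ j ∈ Finset.univ.erase i, f j 1 := by
  rw [hf, coord_self h, ← Finset.mul_prod_erase Finset.univ _ (Finset.mem_univ i), Pi.mulSingle_eq_same]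
  congr 1
  exact Finset.prod_congr rfl fun j hj => by rw [Pi.mulSingle_eq_of_ne (Finset.ne_of_mem_erase hj)]

omit [Finite G] [N.Normal] in
theorem deg_prod {θ : N → ℂ} {f : ∀ i, T i → ℂ} (hf : ∀ n, θ n = ∏ i, f i (e n i))
    (hi : ∀ i, IsIrrCharacter (T i) (f i)) : charDegree θ = ∏ i, charDegree (f i) := by
  apply charDegree_of_eq
  rw [hf, map_one, Nat.cast_prod]
  exact Finset.prod_congr rfl fun i _ => irr_one_eq_charDegree (hi i)

/-- a product character is in the principal block iff its factors are -/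
theorem inB0_prod (h : Sys N T e) (P : Sylow 2 G) {θ : N → ℂ} {f : ∀ i, T i → ℂ} (hf : ∀ n, θ n = ∏ i, f i (e n i))
    (hθ : OddIrr θ) (hi : ∀ i, OddIrr (f i)) : InB0 θ ↔ ∀ i, InB0 (f i) := by
  have := fact2
  obtain ⟨M, hM⟩ := Cfsg.Agent.Blocks.ExistsModular.exists_isPModular Nat.prime_two
  have := isPrime_of_isPModular hM
  obtain ⟨QN, hQN⟩ := S0542.result 2 N (Normal.isSubnormal inferInstance) P
  choose Q hQ using fun i => S0542.result 2 (T i) (h.subnormal i) P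
  rw [inB0_iff_one QN hM hθ]
  constructor
  · intro h1 i
    rw [inB0_iff_one (Q i) hM (hi i)]
    intro y hy ho
    have h2 := h1 ⟨y, h.le i y.2⟩ (by
      rw [mem_centralizer_iff]
      intro q hq
      rw [SetLike.mem_coe, hQN] at hq
      apply e.injective
      rw [map_mul, map_mul, coord_self h]
      funext j
      rw [Pi.mul_apply, Pi.mul_apply]
      by_cases hj : j = i
      · subst hj
        rw [Pi.mulSingle_eq_same]
        refine mem_centralizer_iff.1 hy _ ?_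
        rw [SetLike.mem_coe, hQ]
        exact (mem_iff_coord h P q).1 hq j
      · rw [Pi.mulSingle_eq_of_ne hj, mul_one, one_mul]) (by rwa [orderOf_mk, orderOf_coe])
    rw [val_single h hf] at h2
    have h3 : MemLocalIdeal M (∏ j ∈ Finset.univ.erase i, f j 1 - 1) :=
      prod_sub_one _ fun j _ => deg_sub_one hM (hi j)
    rw [show f i y - 1 = (f i y * ∏ j ∈ Finset.univ.erase i, f j 1 - 1) -
      f i y * (∏ j ∈ Finset.univ.erase i, f j 1 - 1) by ring]
    exact memLocalIdeal_sub h2 (memLocalIdeal_mul_left (ring_char hM (isIrr_isCharacter (hi i).1) y) h3)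
  · intro h1 y hy ho
    rw [hf]
    refine prod_sub_one _ fun i _ => (inB0_iff_one (Q i) hM (hi i)).1 (h1 i) _ ?_ ?_
    · rw [mem_centralizer_iff]
      intro q hq
      rw [SetLike.mem_coe, hQ] at hq
      have h2 := mem_centralizer_iff.1 hy ⟨q, h.le i q.2⟩ (by rw [SetLike.mem_coe, hQN]; exact hq)
      have h3 := congrFun (congrArg e h2) i
      rwa [map_mul, map_mul, coord_self h, Pi.mul_apply, Pi.mul_apply, Pi.mulSingle_eq_same] at h3
    · exact ho.of_dvd_nat (orderOf_map_dvd ((Pi.evalMonoidHom (fun j => T j) i).comp e.toMonoidHom) y)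

/-- **the invariant characters of `B₀(N)` are fixed** -/
theorem fix_of_ff (h : Sys N T e) (P : Sylow 2 G) (hF : ∀ i, FF (RR (P : Subgroup G) (T i))) {θ : N → ℂ}
    (hθ : OddIrr θ) (hb : InB0 θ) (hinv : ∀ g ∈ (P : Subgroup G), ∀ n : N, θ (MulAut.conjNormal g n) = θ n)
    {σ : ℂ ≃+* ℂ} (hσ : Sig σ) : _root_.Cfsg.Agent.ODD.Red.Fix σ θ := by
  obtain ⟨f, hi, hf'⟩ := H663.GmnStep.exists_pi_dep m (fun i => T i) _
    (isIrr_comp e.symm.toMonoidHom e.symm.surjective hθ.1)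
  have hf : ∀ n, θ n = ∏ i, f i (e n i) := by
    intro n
    rw [← hf']
    show θ n = θ (e.symm (e n))
    rw [e.symm_apply_apply]
  have hodd : ∀ i, OddIrr (f i) := by
    intro i
    refine ⟨hi i, fun h2 => hθ.2 ?_⟩
    rw [deg_prod hf hi]
    exact h2.trans (Finset.dvd_prod_of_mem (fun i => charDegree (f i)) (Finset.mem_univ i))
  have hB := (inB0_prod h P hf hθ hodd).1 hb
  have h1 : ∀ i, _root_.Cfsg.Agent.ODD.Red.Fix σ (f i) := by
    intro i
    refine hF i (f i) (hodd i) (hB i) ?_ σ hσ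
    rintro r ⟨g, hg, hr⟩ t
    have h2 := hinv g hg ⟨t, h.le i t.2⟩
    have h3 : MulAut.conjNormal g (⟨t, h.le i t.2⟩ : N) = ⟨r t, h.le i (r t).2⟩ := Subtype.ext (hr t).symm
    rw [h3, val_single h hf, val_single h hf] at h2
    exact mul_right_cancel₀ (Finset.prod_ne_zero_iff.2 fun j _ => irr_one_ne_zero (hi j)) h2
  intro n
  rw [hf, map_prod]
  exact Finset.prod_congr rfl fun i _ => h1 i _

/-- **a moved invariant character of `B₀(N)`** -/
theorem moved_of_not_ff (h : Sys N T e) (P : Sylow 2 G) {i : Fin m} (hF : ¬ FF (RR (P : Subgroup G) (T i))) :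
    ∃ θ : N → ℂ, OddIrr θ ∧ InB0 θ ∧ (∀ g ∈ (P : Subgroup G), ∀ n : N, θ (MulAut.conjNormal g n) = θ n) ∧
      ∃ σ, Sig σ ∧ ¬ _root_.Cfsg.Agent.ODD.Red.Fix σ θ := by
  classical
  unfold FF at hF
  push Not at hF
  obtain ⟨φ, h1, h2, h3, τ, hτ, h4⟩ := hF
  obtain ⟨σ, hσ⟩ := h.exists_sigma
  obtain ⟨t, hti, ht⟩ := exists_reps σ (P : Subgroup G) i
  let Φ : G → ℂ := fun x => if hx : x ∈ T i then φ ⟨x, hx⟩ else 0
  have hΦ : ∀ x : T i, Φ x = φ x := fun x => by simp only [Φ, dif_pos x.2]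
  let f : ∀ j, T j → ℂ := fun j x => if ∃ u ∈ (P : Subgroup G), σ u i = j then Φ ((t j)⁻¹ * x * t j) else 1
  have hf1 : ∀ j, (∃ u ∈ (P : Subgroup G), σ u i = j) → ∀ x : T j, f j x = Φ ((t j)⁻¹ * x * t j) := by
    intro j hj x
    simp only [f, if_pos hj]
  have hf2 : ∀ j, ¬ (∃ u ∈ (P : Subgroup G), σ u i = j) → f j = fun _ => 1 := by
    intro j hj
    funext x
    simp only [f, if_neg hj]
  have hgood : ∀ j, OddIrr (f j) ∧ InB0 (f j) := by
    intro j
    by_cases hj : ∃ u ∈ (P : Subgroup G), σ u i = j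
    · have h5 := hσ (t j) i
      rw [(ht j hj).2] at h5
      have h6 : f j = fun x => φ ((conjIso (t j) h5).symm x) := by
        funext x
        rw [hf1 j hj, ← hΦ]
        congr 1
        obtain ⟨y, rfl⟩ := (conjIso (t j) h5).surjective x
        rw [MulEquiv.symm_apply_apply, conjIso_apply]
        group
      rw [h6]
      exact ⟨oddIrr_comp (f := (conjIso (t j) h5).symm.toMonoidHom) (conjIso (t j) h5).symm.surjective h1,
        inB0_equiv _ h1 h2⟩
    · rw [hf2 j hj]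
      exact ⟨oddIrr_one _, inB0_one _⟩
  let θ : N → ℂ := fun n => ∏ j, f j (e n j)
  have hf : ∀ n, θ n = ∏ j, f j (e n j) := fun _ => rfl
  have hθ : OddIrr θ := by
    refine ⟨isIrr_comp e.toMonoidHom e.surjective (H620.PN.isIrr_piDep fun j => (hgood j).1.1), ?_⟩
    rw [deg_prod hf fun j => (hgood j).1.1, Prime.dvd_finsetProd_iff Nat.prime_two.prime]
    rintro ⟨j, -, hj⟩
    exact (hgood j).1.2 hj
  refine ⟨θ, hθ, (inB0_prod h P hf hθ fun j => (hgood j).1).2 fun j => (hgood j).2, fun u hu n => ?_, τ, hτ, ?_⟩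
  · rw [hf, hf, ← Equiv.prod_comp (σ u)]
    refine Finset.prod_congr rfl fun k _ => ?_
    by_cases hk : ∃ v ∈ (P : Subgroup G), σ v i = k
    · have hj := (orb_iff σ hu i k).2 hk
      rw [hf1 _ hk, hf1 _ hj, coord_sig h hσ u rfl]
      have hs : (t (σ u k))⁻¹ * u * t k ∈ (P : Subgroup G) := mul_mem (mul_mem (inv_mem (ht _ hj).1) hu) (ht _ hk).1
      have h5 := hσ ((t (σ u k))⁻¹ * u * t k) i
      rw [stab_of_reps σ (ht _ hj).2 (ht _ hk).2] at h5
      obtain ⟨r, hr, hr'⟩ := exists_RR hs h5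
      have h6 : (t k)⁻¹ * (e n k : G) * t k ∈ T i := by
        have h7 := Sys.mem_sigma hσ (g := (t k)⁻¹) (e n k).2
        have h8 : σ (t k)⁻¹ k = i := by
          rw [map_inv, Equiv.Perm.inv_eq_iff_eq, (ht _ hk).2]
        rwa [h8, inv_inv] at h7
      have h7 := h3 r hr ⟨_, h6⟩
      rw [← hΦ, ← hΦ, hr'] at h7
      rw [← h7]
      congr 1
      group
    · rw [hf2 _ hk, hf2 _ (fun hj => hk ((orb_iff σ hu i k).1 hj))]
  · intro hfix
    apply h4
    intro x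
    have h5 := hfix ⟨x, h.le i x.2⟩
    rw [val_single h hf, map_mul, map_prod] at h5
    have h6 : ∏ j ∈ Finset.univ.erase i, τ (f j 1) = ∏ j ∈ Finset.univ.erase i, f j 1 :=
      Finset.prod_congr rfl fun j _ => by rw [irr_one_eq_charDegree (hgood j).1.1, map_natCast]
    rw [h6] at h5
    have h7 := mul_right_cancel₀ (Finset.prod_ne_zero_iff.2 fun j _ => irr_one_ne_zero (hgood j).1.1) h5
    rw [hf1 i ⟨1, one_mem _, by rw [map_one]; rfl⟩, hti, inv_one, one_mul, mul_one, hΦ] at h7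
    exact h7

end Cfsg.Agent.GAL
end

-- part: GAL/Red/Fwd
section
prune_inst 0x60004a2054c002000800000000000040200000020000400100440400080c00200000a0016010061010c480904008400000000000000800000000080040000020900344828308000c540009002003190c00000000000000000000000000000000004010000
set_option linter.all false
open scoped Cfsg.Agent.FastGrp

/-!
# `DG P → FG G` (helper20, GAL)

The induction over a minimal normal subgroup: Clifford correspondence, the extension lemma, Gallagher's theorem.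
-/

set_option autoImplicit false

namespace Cfsg.Agent.GAL

open Cfsg Cfsg.Agent.H601.K4 Cfsg.Agent.TAB.Use Cfsg.Agent.ODD.Red Cfsg.Agent.Characters
open Cfsg.Agent.Characters.Core Cfsg.Agent.Blocks.Local Cfsg.Agent.Blocks.Basic Subgroup
open Cfsg.Agent.H803.S74 Cfsg.Agent.OddOrderCharacters.PF9

universe u v

section grp

variable {G : Type u} [Group G] [Finite G]

/-- `DG` passes to the subgroups of odd index -/
theorem DG.sub {P : Sylow 2 G} (hD : DG P) {T : Subgroup G} (h : (P : Subgroup G) ≤ T) : DG (P.subtype h) := by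
  intro y hy ho
  have h1 : (y : G) ∈ normalizer ((P : Subgroup G) : Set G) := by
    refine mem_normalizer_fintype fun x hx => ?_
    exact (mem_normalizer_iff.1 hy ⟨x, h hx⟩).1 hx
  have h2 := hD y h1 (by rwa [orderOf_coe])
  rw [mem_centralizer_iff] at h2 ⊢
  intro x hx
  exact Subtype.ext (h2 x hx)

/-- the normalizer of the image of `P` -/
theorem exists_lift_norm (P : Sylow 2 G) {H : Type v} [Group H] (f : G →* H) (hf : Function.Surjective f) {h : H}
    (hh : h ∈ normalizer (((P : Subgroup G).map f : Subgroup H) : Set H)) :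
    ∃ g ∈ normalizer ((P : Subgroup G) : Set G), f g = h := by
  have := fact2
  obtain ⟨g, rfl⟩ := hf h
  obtain ⟨k, hk, hg⟩ := H627.BR.frat P f.ker (g := g) (by
    intro x hx
    have h1 := (mem_normalizer_iff.1 hh (f x)).1 (mem_map_of_mem f hx)
    rw [← map_inv, ← map_mul, ← map_mul] at h1
    rw [← comap_map_eq]
    exact h1)
  exact ⟨k⁻¹ * g, mem_normalizer_fintype hg, by
    rw [map_mul, map_inv, MonoidHom.mem_ker.1 hk, inv_one, one_mul]⟩

/-- the elements of odd order which normalize the image of `P` -/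
theorem exists_lift_odd (P : Sylow 2 G) {H : Type v} [Group H] (f : G →* H) (hf : Function.Surjective f) {h : H}
    (hh : h ∈ normalizer (((P : Subgroup G).map f : Subgroup H) : Set H)) (ho : Odd (orderOf h)) :
    ∃ y ∈ normalizer ((P : Subgroup G) : Set G), Odd (orderOf y) ∧ f y = h := by
  have := fact2
  obtain ⟨g, h1, rfl⟩ := exists_lift_norm P f hf hh
  obtain ⟨u, hu, y, hy, hyo, huy⟩ := exists_decomp_norm P h1
  refine ⟨y, zpowers_le.2 h1 hy, hyo, ?_⟩
  have h3 : f y ∈ zpowers (f g) := by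
    obtain ⟨j, rfl⟩ := hy
    rw [map_zpow]
    exact zpow_mem (mem_zpowers _) j
  have h4 : f u = f g * (f y)⁻¹ := by rw [huy, map_mul, mul_inv_cancel_right]
  have h5 : f u ∈ zpowers (f g) := h4 ▸ mul_mem (mem_zpowers _) (inv_mem h3)
  have h6 : f u = 1 := eq_one_of_odd_of_mem (P.isPGroup'.map f) (mem_map_of_mem f hu)
    (Odd.of_dvd_nat ho (orderOf_dvd_of_mem_zpowers h5))
  rw [huy, map_mul, h6, one_mul]

/-- `DG` passes to quotients -/
theorem DG.quot {P : Sylow 2 G} (hD : DG P) {H : Type u} [Group H] [Finite H] (f : G →* H)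
    (hf : Function.Surjective f) : DG (haveI := fact2; P.mapSurjective hf) := by
  intro h hh ho
  obtain ⟨y, hy, hyo, rfl⟩ := exists_lift_odd P f hf hh ho
  have h1 := hD y hy hyo
  rw [mem_centralizer_iff] at h1 ⊢
  rintro _ ⟨x, hx, rfl⟩
  rw [← map_mul, ← map_mul, h1 x hx]

omit [Finite G] in
/-- a nonabelian minimal normal subgroup is perfect -/
theorem perf_of_min (N : Subgroup G) [N.Normal] (hmin : ∀ K : Subgroup G, K.Normal → K ≤ N → K = ⊥ ∨ K = N)
    (hna : ¬ ∀ x ∈ N, ∀ y ∈ N, Commute x y) : commutator N = ⊤ := by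
  have hmap : (commutator N).map N.subtype = ⁅N, N⁆ := by
    rw [commutator_def, Subgroup.map_commutator, ← MonoidHom.range_eq_map, Subgroup.range_subtype]
  rcases hmin ⁅N, N⁆ inferInstance (commutator_le_left N N) with h | h
  · exact absurd (fun x hx y hy => (commutator_eq_bot_iff_le_centralizer.1 h hy x hx)) hna
  · apply Subgroup.map_injective N.subtype_injective
    rw [hmap, h, ← MonoidHom.range_eq_map, Subgroup.range_subtype]

end grp

section char

variable {G : Type u} [Group G] [Finite G]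

/-- Brauer's third main theorem for an induced character -/
theorem inB0_of_ind [Fintype G] (T : Subgroup G) {ψ : T → ℂ} (hψ : IsIrrCharacter T ψ)
    (hχ : IsIrrCharacter G (indFun T ψ)) (hb : InB0 (indFun T ψ)) : InB0 ψ := by
  have := fact2
  intro M hM h
  have := isPrime_of_isPModular hM
  have h1 := S0933.result 2 M hM T ⟨ψ, hψ⟩ hχ
  have h2 : principalBlock M G = blockOf M (indFun T ψ) := blockOf_eq_of_sameBlock (hb M hM hχ)
  have h3 := (S0936.result 2 M hM T _ ⟨_, h1⟩).1 (h2 ▸ h1)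
  rw [← h3]
  exact mem_blockOf_self (⟨ψ, h⟩ : IrrCharacter T)

/-- the Clifford step -/
theorem cliffB (N : Subgroup G) [hN : N.Normal] [Fintype N] {χ : G → ℂ} (hχ : OddIrr χ) (hb : InB0 χ) {θ : N → ℂ}
    (hθ : IsIrrCharacter N θ) (h0 : classInner (fun n : N => χ n) θ ≠ 0) :
    ∃ (T : Subgroup G) (ψ : T → ℂ), (∀ g, g ∈ T ↔ ∀ n : N, θ (MulAut.conjNormal g n) = θ n) ∧
      ¬ 2 ∣ T.index ∧ OddIrr ψ ∧ InB0 ψ ∧ ∀ σ, Fix σ ψ → Fix σ χ := by
  have := Fintype.ofFinite G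
  let T := CliffGen.inertia N θ
  have := Fintype.ofFinite T
  have hT' : ∀ g : G, g ∈ T ↔ ∀ n : N, θ ⟨g * n * g⁻¹, hN.conj_mem (n : G) n.2 g⟩ = θ n := fun g => funext_iff
  have hNT : N ≤ T := by
    intro n hn
    rw [hT']
    intro x
    exact isIrr_isClassFunction hθ x ⟨n, hn⟩
  obtain ⟨ψ, hψ, hind, -⟩ := CharDeep.CliffordCorr.clifford_correspondence N θ hθ T hT' hNT χ hχ.1 h0
  have h1 : Odd T.index ∧ Odd (charDegree ψ) := by
    refine odd_of_mul (odd_iff'.2 hχ.2) ?_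
    rw [← apply_one (isIrr_isCharacter hχ.1), ← apply_one (isIrr_isCharacter hψ), ← hind,
      CharactersDeep.NormalInd.indFun_one]
  refine ⟨T, ψ, hT', odd_iff'.1 h1.1, ⟨hψ, odd_iff'.1 h1.2⟩, inB0_of_ind T hψ (hind ▸ hχ.1) (hind ▸ hb),
    fun σ h g => ?_⟩
  have h2 : (fun t => σ (ψ t)) = ψ := funext h
  rw [← hind, map_indFun, h2]

theorem inB0_under (N : Subgroup G) [N.Normal] [Fintype N] {χ : G → ℂ} (hχ : IsIrrCharacter G χ) (hb : InB0 χ)
    {θ : N → ℂ} (h0 : classInner (fun n : N => χ n) θ ≠ 0) : InB0 θ := by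
  have := fact2
  have := Fintype.ofFinite G
  intro M hM h
  exact H611.CoverPrincipal.mem_principalBlock_of_over 2 hM N ⟨χ, hχ⟩ ⟨θ, h⟩ h0 (hb M hM hχ)

theorem dH_hom (l : G →* ℂˣ) (g : G) : dH (fun x => (l x : ℂ)) g = l g := by
  have h0 : IsCharacter G (fun _ : G => (1 : ℂ)) := isIrr_isCharacter isIrr_one
  have h1 := dH_lin l h0 g
  have h2 : charDegree (fun _ : G => (1 : ℂ)) = 1 := charDegree_of (n := 1) (by simp)
  have h3 := dH_comp (1 : G →* G) h0 g
  simp only [mul_one, h2, pow_one] at h1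
  rw [h1, show dH (fun _ : G => (1 : ℂ)) g = 1 from h3.trans (map_one _), mul_one]

/-- linear characters of the principal block have 2-power order -/
theorem pow_eq_one_of_inB0 (hc : ∀ a b : G, a * b = b * a) {l : G →* ℂˣ} (hb : InB0 (fun x => (l x : ℂ))) {a b : ℕ}
    (ho : Odd b) (h : ∀ g : G, g ^ (2 ^ a * b) = 1) (g : G) : l g ^ 2 ^ a = 1 := by
  have := fact2
  obtain ⟨M, hM⟩ := Cfsg.Agent.Blocks.ExistsModular.exists_isPModular Nat.prime_two
  have h0 : OddIrr (fun x => (l x : ℂ)) :=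
    ⟨Linear.isIrrCharacter_hom l, by rw [charDegree_of (n := 1) (by simp)]; decide⟩
  have h1 : (g ^ 2 ^ a) ^ b = 1 := by rw [← pow_mul, h]
  have h2 := (inB0_iff_one (default : Sylow 2 G) hM h0).1 hb (g ^ 2 ^ a) (fun x _ => hc _ _)
    (Odd.of_dvd_nat ho (orderOf_dvd_of_pow_eq_one h1))
  rw [← map_pow]
  refine Units.ext (H700.PrinCrit.eq_one_of_sub_mem hM (odd_iff'.1 ho) ?_ h2)
  rw [← Units.val_pow_eq_pow_val, ← map_pow, h1, map_one, Units.val_one]

/-- the extension, abelian case -/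
theorem exists_ext_comm (N : Subgroup G) (hc : ∀ a b : N, a * b = b * a) {χ : G → ℂ} (hχ : OddIrr χ) {θ : N → ℂ}
    (hθ : IsIrrCharacter N θ) (hb : InB0 θ) {e : ℕ} (he : ∀ n : N, χ n = e * θ n) {σ : ℂ ≃+* ℂ} (hσ : Sig σ) :
    ∃ η : G → ℂ, IsIrrCharacter G η ∧ (∀ n : N, η n = θ n) ∧ Fix σ η := by
  obtain ⟨l, rfl⟩ := CCBasic.exists_hom_of_comm hc hθ
  obtain ⟨a, b, hb2, hab⟩ := Nat.exists_eq_two_pow_mul_odd (Nat.card_pos (α := G)).ne'
  have hG : ∀ g : G, g ^ (2 ^ a * b) = 1 := fun g => by rw [← hab, pow_card_eq_one']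
  have h1 := pow_eq_one_of_inB0 hc hb hb2 (a := a) fun n => Subtype.ext (hG n)
  have h2 : Odd e := by
    have h3 : χ 1 = e * (l 1 : ℂ) := he 1
    rw [map_one, Units.val_one, mul_one] at h3
    have h4 := odd_iff'.2 hχ.2
    rwa [charDegree_of (n := e) h3] at h4
  have h3 : ∀ n : N, dH χ n = l n ^ e := by
    intro n
    have h4 := dH_comp N.subtype (isIrr_isCharacter hχ.1) n
    have h5 : (fun x : N => χ (N.subtype x)) = fun x => (e : ℂ) * (l x : ℂ) := funext he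
    rw [h5, dH_smul (isIrr_isCharacter hθ), dH_hom] at h4
    exact h4.symm
  obtain ⟨j, hj⟩ := Nat.exists_mul_mod_eq_of_coprime (n := e * b) (k := 2 ^ a) 1
    ((Nat.coprime_two_right.2 (h2.mul hb2)).pow_right a) (by positivity)
  let μ : G →* ℂˣ := (dH χ) ^ (b * j)
  have hμ : ∀ g, μ g = dH χ g ^ (b * j) := fun g => rfl
  refine ⟨fun g => (μ g : ℂ), Linear.isIrrCharacter_hom μ, fun n => ?_, fun g => ?_⟩
  · show (μ n : ℂ) = l n
    rw [hμ, h3, ← pow_mul, ← mul_assoc, pow_eq_pow_mod _ (h1 n), hj.2, ← pow_eq_pow_mod _ (h1 n), pow_one]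
  · refine hσ.1 a _ ?_
    show (μ g : ℂ) ^ 2 ^ a = 1
    rw [← Units.val_pow_eq_pow_val, hμ, ← pow_mul, show b * j * 2 ^ a = 2 ^ a * b * j by ring, pow_mul, ← map_pow,
      hG, map_one, one_pow, Units.val_one]

/-- the boxes of the factors -/
theorem box_factor (hB : AllBox.{u}) {N : Subgroup G} {m : ℕ} {T : Fin m → Subgroup G} {e : N ≃* ∀ i, T i}
    (h : Sys N T e) (i : Fin m) : Box (T i) := by
  refine hB (T i) (h.simple i) fun hc => ?_
  obtain ⟨a, b, hab⟩ := h.nab i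
  exact hab (hc.is_comm.comm a b)

/-- the extension, nonabelian case -/
theorem exists_ext_nab (hB : AllBox.{u}) (P : Sylow 2 G) (hD : DG P) (N : Subgroup G) [N.Normal]
    (hmin : ∀ K : Subgroup G, K.Normal → K ≤ N → K = ⊥ ∨ K = N) (hna : ¬ ∀ x ∈ N, ∀ y ∈ N, Commute x y)
    {θ : N → ℂ} (hθ : OddIrr θ) (hb : InB0 θ) (hinv : ∀ (g : G) (n : N), θ (MulAut.conjNormal g n) = θ n)
    {σ : ℂ ≃+* ℂ} (hσ : Sig σ) : ∃ η : G → ℂ, IsIrrCharacter G η ∧ (∀ n : N, η n = θ n) ∧ Fix σ η := by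
  have := fact2
  obtain ⟨m, T, e, -, h⟩ := exists_sys N hmin hna
  refine exists_fixed_ext N (perf_of_min N hmin hna) hθ hinv hσ
    (fix_of_ff h P (fun i => ?_) hθ hb (fun g _ => hinv g) hσ)
  obtain ⟨Q, hQ⟩ := S0542.result 2 (T i) (h.subnormal i) P
  exact (box_factor hB h i Q _ (frame_RR P (T i) hQ)).1 (dd_of_dg h P hD i hQ)

/-- the Gallagher step -/
theorem fix_of_ext (P : Sylow 2 G) (hD : DG P) (N : Subgroup G) [N.Normal] [Fintype N] (hF : FG (G ⧸ N))
    {χ : G → ℂ} (hχ : OddIrr χ) (hb : InB0 χ) {η : G → ℂ} (hη : IsIrrCharacter G η)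
    (hηN : IsIrrCharacter N (fun n : N => η n)) (h0 : classInner (fun n : N => χ n) (fun n : N => η n) ≠ 0)
    {σ : ℂ ≃+* ℂ} (hσ : Sig σ) (hf : Fix σ η) : Fix σ χ := by
  have := fact2
  have := Fintype.ofFinite G
  obtain ⟨M, hM⟩ := Cfsg.Agent.Blocks.ExistsModular.exists_isPModular Nat.prime_two
  have := isPrime_of_isPModular hM
  obtain ⟨β, hβ, hβN, hmul⟩ := CharactersDeep.CosetAverage.exists_irr_mul N η hη hηN χ hχ.1 h0
  have hs := QuotientGroup.mk'_surjective N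
  obtain ⟨γ, hγ, hγβ⟩ := exists_quot (QuotientGroup.mk' N) hs hβ (by
    intro z hz
    rw [QuotientGroup.ker_mk'] at hz
    have h1 := hβN ⟨z, hz⟩ 1
    rwa [mul_one] at h1)
  have hv : ∀ g, χ g = η g * γ (QuotientGroup.mk' N g) := fun g => by rw [hγβ, hmul, Pi.mul_apply]
  have h1 : OddIrr γ := by
    refine ⟨hγ, odd_iff'.1 (odd_of_mul (a := charDegree η) (odd_iff'.2 hχ.2) ?_).2⟩
    rw [← apply_one (isIrr_isCharacter hχ.1), ← apply_one (isIrr_isCharacter hη),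
      ← apply_one (isIrr_isCharacter hγ), hv, map_one]
  have h2 : InB0 γ := by
    refine (inB0_iff_one (P.mapSurjective hs) hM h1).2 fun z hz ho => ?_
    obtain ⟨y, hy, hyo, rfl⟩ := exists_lift_odd P _ hs (centralizer_le_normalizer _ hz) ho
    have h3 := (inB0_iff_one P hM hχ).1 hb y (hD y hy hyo) hyo
    have h4 : MemLocalRing M (γ (QuotientGroup.mk' N y)) := ring_char hM (isIrr_isCharacter hγ) _
    have h5 : ¬ MemLocalIdeal M (η y) := by
      intro h
      have h6 := memLocalIdeal_mul_right h h4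
      rw [← hv, memLocalIdeal_iff_of_sub h3] at h6
      exact not_memLocalIdeal_one h6
    have h6 := sub_one_of_fix hM hσ (isIrr_isCharacter hη) hf hyo h5
    have h7 := memLocalIdeal_sub h3 (memLocalIdeal_mul_right h6 h4)
    rw [hv] at h7
    convert h7 using 1
    ring
  intro g
  rw [hv, map_mul, hf g, hF γ h1 h2 σ hσ]

end char

theorem fg_of_dg_aux (hB : AllBox.{u}) (n : ℕ) :
    ∀ (G : Type u) [Group G] [Finite G], Nat.card G = n → ∀ P : Sylow 2 G, DG P → FG G := by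
  induction n using Nat.strong_induction_on with
  | _ n ih =>
  intro G _ _ hn P hD χ hχ hb σ hσ
  have := fact2
  rcases subsingleton_or_nontrivial G with hG | hG
  · intro g
    rw [Subsingleton.elim g 1, apply_one (isIrr_isCharacter hχ.1), map_natCast]
  obtain ⟨N, hN, hN0, hmin⟩ := H386.Factor.exists_min_normal (G := G)
  have := Fintype.ofFinite N
  obtain ⟨θ, hθ, h0⟩ := H113.NormTwoChar.exists_constituent (χ := fun n : N => χ n)
    (isCharacter_comp' N.subtype (isIrr_isCharacter hχ.1)) (by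
      intro h
      have h1 : χ 1 = (0 : ℕ) := by simpa using congrFun h 1
      exact hχ.2 (by rw [charDegree_of h1]; exact dvd_zero 2))
  obtain ⟨T, ψ, hT, hTi, hψ, hψb, hψf⟩ := cliffB N hχ hb hθ h0
  by_cases hTt : T = ⊤
  · have hinv : ∀ (g : G) (n : N), θ (MulAut.conjNormal g n) = θ n := fun g => (hT g).1 (hTt ▸ mem_top g)
    obtain ⟨e, he⟩ := exists_restrict N hχ.1 hθ hinv h0
    have hθb := inB0_under N hχ.1 hb h0
    have hθo : OddIrr θ := by
      refine ⟨hθ, odd_iff'.1 (odd_of_mul (a := e) (odd_iff'.2 hχ.2) ?_).2⟩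
      rw [← apply_one (isIrr_isCharacter hχ.1), ← apply_one (isIrr_isCharacter hθ)]
      exact he 1
    have hex : ∃ η : G → ℂ, IsIrrCharacter G η ∧ (∀ n : N, η n = θ n) ∧ Fix σ η := by
      by_cases hc : ∀ x ∈ N, ∀ y ∈ N, Commute x y
      · exact exists_ext_comm N (fun a b => Subtype.ext (hc a a.2 b b.2)) hχ hθ hθb he hσ
      · exact exists_ext_nab hB P hD N hmin hc hθo hθb hinv hσ
    obtain ⟨η, hη, hηθ, hf⟩ := hex
    have h1 : (fun n : N => η n) = θ := funext hηθ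
    exact fix_of_ext P hD N (ih _ (hn ▸ Lib.SolvableNormalP.card_quotient_lt hN0) (G ⧸ N) rfl _
      (hD.quot _ (QuotientGroup.mk'_surjective N))) hχ hb hη (h1 ▸ hθ) (h1 ▸ h0) hσ hf
  · obtain ⟨S, hS⟩ := H700.PRatExt.exists_sylow_le T hTi
    have hlt : Nat.card T < n := by
      rw [← hn]
      exact lt_of_le_of_ne (card_le_card_group T) fun h => hTt (eq_top_of_card_eq T h)
    exact hψf σ (ih _ hlt T rfl _ ((hD.sylow S).sub hS) ψ hψ hψb σ hσ)

/-- **the direction `⇒`** -/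
theorem fg_of_dg (hB : AllBox.{u}) {G : Type u} [Group G] [Finite G] {P : Sylow 2 G} (hD : DG P) : FG G :=
  fg_of_dg_aux hB _ G rfl P hD

end Cfsg.Agent.GAL
end

-- part: GAL/Spor/Loc
section
prune_inst 0x40000e2101c00200001c0010a00000c1110000020040000100060502000440202506a00148800710180080500000000002000000401000000a00080040000020900244020300000c65000900a003190c00000000000000000000000000000000004010000
set_option linter.all false
open scoped Cfsg.Agent.FastGrp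

/-!
# S4617 / S4618: groups with a Sylow normalizer `Q : 3` (helper20, GAL)

* `CF Q` : the centralizer of `Q` has no nontrivial elements of odd order;
* `Phi Q` : outer automorphisms of `2`-power order which normalize `Q` fix no coset of odd order in `N(Q)/Q`;
* `box_of_phi`, `phi_of_inv` (one automorphism which inverts `N(Q)/Q`), `cf_of_hom`, `not_dg_of_hom`, `phi_of_sheet`
  (reduction to the quotient of an involution centralizer).
-/

set_option autoImplicit false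
set_option linter.unusedSectionVars false

namespace Cfsg.Agent.GAL.Spor

open Cfsg Subgroup Cfsg.Agent.TAB.Use Cfsg.Agent.OddHalf.D8.JTwo.Sheet

universe u

variable {S : Type u} [Group S]

/-- no elements of odd order in the centralizer -/
def CF (Q : Sylow 2 S) : Prop := ∀ y ∈ centralizer ((Q : Subgroup S) : Set S), Odd (orderOf y) → y = 1

/-- the outer automorphisms move the cosets of odd order -/
def Phi (Q : Sylow 2 S) : Prop :=
  ∀ r : MulAut S, (∃ k : ℕ, r ^ 2 ^ k = 1) → ¬ Inner r → (∀ q ∈ (Q : Subgroup S), r q ∈ (Q : Subgroup S)) →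
    ∀ y ∈ normalizer ((Q : Subgroup S) : Set S), Odd (orderOf y) → y⁻¹ * r y ∈ (Q : Subgroup S) → y = 1

theorem inner_iff_mem {r : MulAut S} : Inner r ↔ r ∈ (MulAut.conj : S →* MulAut S).range :=
  ⟨fun ⟨s, h⟩ => ⟨s, h.symm⟩, fun ⟨s, h⟩ => ⟨s, h.symm⟩⟩

theorem conj_conj (r : MulAut S) (s : S) : MulAut.conj (r s) = r * MulAut.conj s * r⁻¹ := by
  ext x
  simp

theorem normal_inn : (MulAut.conj : S →* MulAut S).range.Normal :=
  ⟨by
    rintro _ ⟨s, rfl⟩ r
    exact ⟨r s, conj_conj r s⟩⟩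

theorem mem_smul_iff (g : S) (P : Sylow 2 S) (x : S) :
    x ∈ ((g • P : Sylow 2 S) : Subgroup S) ↔ g⁻¹ * x * g ∈ (P : Subgroup S) := by
  rw [Sylow.coe_subgroup_smul, Subgroup.mem_pointwise_smul_iff_inv_smul_mem, ← map_inv, MulAut.smul_def,
    MulAut.conj_apply, inv_inv]

/-- `Phi` does not depend on the Sylow subgroup -/
theorem Phi.sylow [Finite S] {P : Sylow 2 S} (h : Phi P) (Q : Sylow 2 S) : Phi Q := by
  have := fact2
  obtain ⟨g, rfl⟩ := MulAction.exists_smul_eq S P Q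
  intro r hr hn hQ y hy ho hm
  let r' : MulAut S := (MulAut.conj g)⁻¹ * r * MulAut.conj g
  have hr' : ∀ x, r' x = g⁻¹ * r (g * x * g⁻¹) * g := fun x => by simp [r']
  have h1 := h r' (by
      obtain ⟨k, hk⟩ := hr
      refine ⟨k, ?_⟩
      have h2 : r' = (MulAut.conj g)⁻¹ * r * (MulAut.conj g)⁻¹⁻¹ := by rw [inv_inv]
      rw [h2, conj_pow, hk, mul_one, mul_inv_cancel])
    (by
      rw [inner_iff_mem] at hn ⊢
      intro h2
      apply hn
      have h3 := normal_inn.conj_mem _ h2 (MulAut.conj g)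
      rwa [show MulAut.conj g * r' * (MulAut.conj g)⁻¹ = r by simp only [r']; group] at h3)
    (fun q hq => by
      rw [hr', ← mem_smul_iff]
      refine hQ _ ?_
      rw [mem_smul_iff, show g⁻¹ * (g * q * g⁻¹) * g = q by group]
      exact hq)
    (g⁻¹ * y * g)
    (by
      refine mem_normalizer_fintype fun x hx => ?_
      have h2 := (mem_normalizer_iff.1 hy (g * x * g⁻¹)).1 (by
        rw [mem_smul_iff, show g⁻¹ * (g * x * g⁻¹) * g = x by group]
        exact hx)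
      rw [mem_smul_iff] at h2
      rw [show g⁻¹ * y * g * x * (g⁻¹ * y * g)⁻¹ = g⁻¹ * (y * (g * x * g⁻¹) * y⁻¹) * g by group]
      exact h2)
    (by
      have h3 := orderOf_conj' g⁻¹ y
      rw [inv_inv] at h3
      rwa [h3])
    (by
      rw [mem_smul_iff] at hm
      rw [hr', show g * (g⁻¹ * y * g) * g⁻¹ = y by group,
        show (g⁻¹ * y * g)⁻¹ * (g⁻¹ * r y * g) = g⁻¹ * (y⁻¹ * r y) * g by group]
      exact hm)
  rw [show y = g * (g⁻¹ * y * g) * g⁻¹ by group, h1]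
  group

/-- `CF` does not depend on the Sylow subgroup -/
theorem CF.sylow [Finite S] {P : Sylow 2 S} (h : CF P) (Q : Sylow 2 S) : CF Q := by
  have := fact2
  obtain ⟨g, rfl⟩ := MulAction.exists_smul_eq S P Q
  intro y hy ho
  have h1 := h (g⁻¹ * y * g) (by
      rw [mem_centralizer_iff]
      intro x hx
      have h2 := mem_centralizer_iff.1 hy (g * x * g⁻¹) (by
        show g * x * g⁻¹ ∈ ((g • P : Sylow 2 S) : Subgroup S)
        rw [mem_smul_iff, show g⁻¹ * (g * x * g⁻¹) * g = x by group]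
        exact hx)
      calc x * (g⁻¹ * y * g) = g⁻¹ * (g * x * g⁻¹ * y) * g := by group
        _ = g⁻¹ * y * g * x := by rw [h2]; group)
    (by
      have h3 := orderOf_conj' g⁻¹ y
      rw [inv_inv] at h3
      rwa [h3])
  rw [show y = g * (g⁻¹ * y * g) * g⁻¹ by group, h1]
  group

theorem Phi.dd [Finite S] {Q : Sylow 2 S} (h : Phi Q) (hZ : center S = ⊥) {R : Subgroup (MulAut S)} (hR : Frame Q R)
    (hr : ∃ r ∈ R, ¬ Inner r) : DD Q R := by
  obtain ⟨r, hr, hr'⟩ := hr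
  intro y ho hy
  have h1 : y⁻¹ ∈ normalizer ((Q : Subgroup S) : Set S) := by
    refine mem_normalizer_fintype fun q hq => ?_
    have h2 := hy _ (hR.inn q hq)
    rw [MulAut.conj_apply] at h2
    have h3 := (Q : Subgroup S).mul_mem h2 hq
    rw [inv_inv]
    rw [show y⁻¹ * (q * y * q⁻¹) * q = y⁻¹ * q * y by group] at h3
    exact h3
  obtain ⟨k, hk⟩ := hR.two ⟨r, hr⟩
  have h2 := h r ⟨k, congrArg Subtype.val hk⟩ hr' (fun q hq => hR.map_mem hZ hr hq) y (by simpa using inv_mem h1) ho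
    (hy r hr)
  exact fun r _ => by rw [h2, map_one]

theorem two_of_index (h : (MulAut.conj : S →* MulAut S).range.index = 1 ∨
    (MulAut.conj : S →* MulAut S).range.index = 2) (r r' : MulAut S) (hr : ¬ Inner r) (hr' : ¬ Inner r') :
    Inner (r' * r⁻¹) := by
  rw [inner_iff_mem] at hr hr' ⊢
  rcases h with h | h
  · rw [index_eq_one.1 h]
    exact mem_top _
  · exact (mul_mem_iff_of_index_two h).2 (iff_of_false hr' fun e => hr (inv_mem_iff.1 e))

/-- **the rows with a Sylow normalizer `Q : 3`** -/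
theorem box_of_phi [Finite S] (hZ : center S = ⊥) (Q : Sylow 2 S) (hD : ¬ DG Q) (hC : CF Q) (hP : Phi Q)
    (h2 : (MulAut.conj : S →* MulAut S).range.index = 1 ∨ (MulAut.conj : S →* MulAut S).range.index = 2)
    (hM : OddMoved S) (hA : OddSigAut S) : Box S :=
  box_of_cases hZ Q (iff_of_false hD (not_fg_of_moved Q hC hM)) fun Q' _ hR h =>
    iff_of_true ((hP.sylow Q').dd hZ hR h) (ff_of_aut (two_of_index h2) hA h)

/-- one automorphism which inverts `N(Q)/Q` -/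
theorem phi_of_inv [Finite S] (Q : Sylow 2 S)
    (h2 : (MulAut.conj : S →* MulAut S).range.index = 1 ∨ (MulAut.conj : S →* MulAut S).range.index = 2) {w : S}
    (hw : w ∈ normalizer ((Q : Subgroup S) : Set S)) (h3 : w ^ 3 = 1) (hw1 : w ≠ 1)
    (hN : ∀ g ∈ normalizer ((Q : Subgroup S) : Set S), ∃ s ∈ (Q : Subgroup S), ∃ k : ℕ, g = s * w ^ k)
    (φ : MulAut S) (hφ : ∀ q ∈ (Q : Subgroup S), φ q ∈ (Q : Subgroup S)) (hφw : φ w * w ∈ (Q : Subgroup S)) :
    Phi Q := by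
  let N : Subgroup S := normalizer ((Q : Subgroup S) : Set S)
  let K : Subgroup N := (Q : Subgroup S).subgroupOf N
  have : K.Normal := normal_in_normalizer
  let π : N →* N ⧸ K := QuotientGroup.mk' K
  have hπ : ∀ x : N, π x = 1 ↔ (x : S) ∈ (Q : Subgroup S) := fun x => QuotientGroup.eq_one_iff x
  let ω : N ⧸ K := π ⟨w, hw⟩
  have hω3 : ω ^ 3 = 1 := by
    rw [← map_pow, show (⟨w, hw⟩ : N) ^ 3 = 1 from Subtype.ext h3, map_one]
  have hcyc : ∀ x : N, ∃ k : ℕ, π x = ω ^ k := by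
    intro x
    obtain ⟨s, hs, k, hk⟩ := hN x x.2
    refine ⟨k, ?_⟩
    rw [show x = ⟨s, le_normalizer hs⟩ * ⟨w, hw⟩ ^ k from Subtype.ext hk, map_mul, (hπ _).2 hs, one_mul, map_pow]
  have hcomm : ∀ x y : N, π x * π y = π y * π x := by
    intro x y
    obtain ⟨k, hk⟩ := hcyc x
    obtain ⟨l, hl⟩ := hcyc y
    rw [hk, hl, pow_mul_comm]
  have hnorm : ∀ (r : MulAut S), (∀ q ∈ (Q : Subgroup S), r q ∈ (Q : Subgroup S)) → ∀ x ∈ N, r x ∈ N := by
    intro r hr x hx
    have hsurj : Set.SurjOn r (Q : Subgroup S) (Q : Subgroup S) :=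
      ((Set.toFinite _).injOn_iff_bijOn_of_mapsTo hr).1 r.injective.injOn |>.surjOn
    refine mem_normalizer_fintype fun q hq => ?_
    obtain ⟨p, hp, rfl⟩ := hsurj hq
    rw [← map_inv, ← map_mul, ← map_mul]
    exact hr _ ((mem_normalizer_iff.1 hx p).1 hp)
  have hω1 : ω ≠ 1 := fun h => hw1 (eq_one_of_odd_of_mem Q.isPGroup' ((hπ _).1 h)
    (Odd.of_dvd_nat (by decide : Odd 3) (orderOf_dvd_of_pow_eq_one h3)))
  have hφω : π ⟨φ w, hnorm φ hφ w hw⟩ = ω⁻¹ := by
    rw [eq_inv_iff_mul_eq_one, ← map_mul, hπ]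
    exact hφw
  have hinv : ∀ (r : MulAut S), (∀ q ∈ (Q : Subgroup S), r q ∈ (Q : Subgroup S)) →
      ∀ q ∈ (Q : Subgroup S), r⁻¹ q ∈ (Q : Subgroup S) := by
    intro r hr q hq
    have hsurj : Set.SurjOn r (Q : Subgroup S) (Q : Subgroup S) :=
      ((Set.toFinite _).injOn_iff_bijOn_of_mapsTo hr).1 r.injective.injOn |>.surjOn
    obtain ⟨p, hp, rfl⟩ := hsurj hq
    rwa [MulAut.inv_apply_self]
  have hsq : ∀ x : N ⧸ K, x ^ 3 = 1 → x⁻¹ = x → x = 1 := by
    intro x h1 h4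
    calc x = x ^ 3 * (x⁻¹ * x⁻¹) := by group
      _ = 1 := by
        rw [h1, one_mul]
        nth_rw 2 [h4]
        exact inv_mul_cancel x
  have hφn : ¬ Inner φ := by
    rintro ⟨g, rfl⟩
    have hg : g ∈ N := mem_normalizer_fintype fun q hq => hφ q hq
    apply hω1
    refine hsq ω hω3 ?_
    rw [← hφω, show (⟨MulAut.conj g w, hnorm _ hφ w hw⟩ : N) = ⟨g, hg⟩ * ⟨w, hw⟩ * ⟨g, hg⟩⁻¹ from rfl, map_mul,
      map_mul, map_inv, hcomm, mul_inv_cancel_right]
  intro r _ hn hr y hy ho hm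
  obtain ⟨g, hg⟩ := two_of_index h2 φ r hφn hn
  have hgN : g ∈ N := mem_normalizer_fintype fun q hq => by
    have h4 := hr _ (hinv φ hφ q hq)
    rwa [← MulAut.mul_apply, hg] at h4
  have hrw : π ⟨r w, hnorm r hr w hw⟩ = ω⁻¹ := by
    have h4 : r w = g * φ w * g⁻¹ := by
      rw [← MulAut.conj_apply, ← hg]
      simp
    rw [show (⟨r w, hnorm r hr w hw⟩ : N) = ⟨g, hgN⟩ * ⟨φ w, hnorm φ hφ w hw⟩ * ⟨g, hgN⟩⁻¹ from Subtype.ext h4,
      map_mul, map_mul, map_inv, hcomm, mul_inv_cancel_right, hφω]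
  obtain ⟨s, hs, k, hk⟩ := hN y hy
  have h5 : π ⟨y, hy⟩ = ω ^ k := by
    rw [show (⟨y, hy⟩ : N) = ⟨s, le_normalizer hs⟩ * ⟨w, hw⟩ ^ k from Subtype.ext hk, map_mul, (hπ _).2 hs, one_mul,
      map_pow]
  have h6 : π ⟨r y, hnorm r hr y hy⟩ = (ω ^ k)⁻¹ := by
    rw [show (⟨r y, hnorm r hr y hy⟩ : N) = ⟨r s, le_normalizer (hr s hs)⟩ * ⟨r w, hnorm r hr w hw⟩ ^ k from
      Subtype.ext (by rw [coe_mul, coe_pow, ← map_pow, ← map_mul, ← hk]), map_mul, (hπ _).2 (hr s hs), one_mul,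
      map_pow, hrw, inv_pow]
  have h7 : π (⟨y, hy⟩⁻¹ * ⟨r y, hnorm r hr y hy⟩) = 1 := (hπ _).2 hm
  rw [map_mul, map_inv, h5, h6, inv_mul_eq_one] at h7
  have h8 : ω ^ k = 1 := hsq _ (by rw [← pow_mul, mul_comm, pow_mul, hω3, one_pow]) h7.symm
  exact eq_one_of_odd_of_mem Q.isPGroup' ((hπ _).1 (h5.trans h8)) ho

section hom

variable [Finite S] {L : Type u} [Group L] [Finite L] {Q : Sylow 2 S} {C : Subgroup S}

/-- the image of the Sylow subgroup -/
noncomputable def im (hQ : (Q : Subgroup S) ≤ C) (π : C →* L) (hs : Function.Surjective π) : Sylow 2 L :=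
  haveI := fact2
  (Q.subtype hQ).mapSurjective hs

theorem mem_im {hQ : (Q : Subgroup S) ≤ C} {π : C →* L} {hs : Function.Surjective π} {l : L} :
    l ∈ (im hQ π hs : Subgroup L) ↔ ∃ x : C, (x : S) ∈ (Q : Subgroup S) ∧ π x = l := Iff.rfl

theorem not_dg_of_hom (hQ : (Q : Subgroup S) ≤ C) (π : C →* L) (hs : Function.Surjective π) {T : Sylow 2 L}
    (h : ¬ DG T) : ¬ DG Q := fun hD => h (((hD.sub hQ).quot π hs).sylow T)

theorem odd_map (π : C →* L) {y : C} (ho : Odd (orderOf (y : S))) : Odd (orderOf (π y)) :=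
  Odd.of_dvd_nat (by rwa [orderOf_coe] at ho) (orderOf_map_dvd π y)

theorem cf_of_hom (hQ : (Q : Subgroup S) ≤ C) (hC : centralizer ((Q : Subgroup S) : Set S) ≤ C) (π : C →* L)
    (hs : Function.Surjective π) (hk : IsPGroup 2 π.ker) {T : Sylow 2 L} (h : CF T) : CF Q := by
  intro y hy ho
  have h1 := h.sylow (im hQ π hs) (π ⟨y, hC hy⟩) (by
    rw [mem_centralizer_iff]
    intro l hl
    obtain ⟨x, hx, rfl⟩ := mem_im.1 hl
    rw [← map_mul, ← map_mul]
    congr 1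
    exact Subtype.ext (mem_centralizer_iff.1 hy x hx)) (odd_map π ho)
  exact congrArg Subtype.val (eq_one_of_odd_of_mem hk (y := ⟨y, hC hy⟩) h1 (by rwa [← orderOf_coe]))

end hom

section sheet

variable [Finite S] {L : Type u} [Group L] [Finite L] {z : S} {P R : Subgroup S}

theorem fix_z {Q : Sylow 2 S} (hz1 : z ≠ 1) (hz : z ∈ (Q : Subgroup S)) (hc : ∀ x ∈ (Q : Subgroup S), x * z = z * x)
    (hu : ∀ y ∈ (Q : Subgroup S), (∀ x ∈ (Q : Subgroup S), x * y = y * x) → y = 1 ∨ y = z) {r : MulAut S}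
    (hr : ∀ q ∈ (Q : Subgroup S), r q ∈ (Q : Subgroup S)) : r z = z := by
  have hsurj : Set.SurjOn r (Q : Subgroup S) (Q : Subgroup S) :=
    ((Set.toFinite _).injOn_iff_bijOn_of_mapsTo hr).1 r.injective.injOn |>.surjOn
  rcases hu (r z) (hr z hz) (fun x hx => by
    obtain ⟨p, hp, rfl⟩ := hsurj hx
    rw [← map_mul, ← map_mul, hc p hp]) with h | h
  · exact absurd ((map_eq_one_iff r r.injective).1 h) hz1
  · exact h

theorem map_cent {r : MulAut S} (hr : r z = z) {x : S} (hx : x ∈ centralizer ({z} : Set S)) :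
    r x ∈ centralizer ({z} : Set S) := by
  rw [mem_centralizer_singleton_iff] at hx ⊢
  rw [← hr, ← map_mul, ← map_mul, hx]

/-- the induced automorphism -/
theorem exists_ind (h : SheetX z P R) (π : centralizer ({z} : Set S) →* L) (hs : Function.Surjective π)
    (hk : ∀ x, π x = 1 ↔ (x : S) ∈ R) {r : MulAut S} (hr : r z = z) :
    ∃ β : MulAut L, ∀ x : centralizer ({z} : Set S), π ⟨r x, map_cent hr x.2⟩ = β (π x) := by
  let f : centralizer ({z} : Set S) →* centralizer ({z} : Set S) :=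
    (r.toMonoidHom.comp (centralizer ({z} : Set S)).subtype).codRestrict _ fun x => map_cent hr x.2
  have hf : Function.Surjective f :=
    Finite.surjective_of_injective fun a b hab => Subtype.ext (r.injective (congrArg Subtype.val hab))
  let g : L →* L := π.liftOfSurjective hs ⟨π.comp f, fun x hx =>
    (hk _).2 (OddHalf.CaseM.X.map_R h r hr ((hk x).1 hx))⟩
  have hg : ∀ x, g (π x) = π (f x) := fun x => π.liftOfRightInverse_comp_apply _ _ _ x
  have hg' : Function.Surjective g := by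
    intro l
    obtain ⟨x, rfl⟩ := hs l
    obtain ⟨y, rfl⟩ := hf x
    exact ⟨π y, hg y⟩
  exact ⟨MulEquiv.ofBijective g ⟨Finite.injective_iff_surjective.2 hg', hg'⟩, fun x => (hg x).symm⟩

theorem pow_fix {r : MulAut S} (hr : r z = z) (n : ℕ) : (r ^ n) z = z := by
  induction n with
  | zero => rfl
  | succ n ih => rw [pow_succ, MulAut.mul_apply, hr, ih]

/-- an automorphism which fixes `z` and is trivial on `C(z)/R` is inner, if a `2`-power of it is inner -/
theorem inner_of_triv (h : SheetX z P R) {r : MulAut S} (hr : r z = z) {k : ℕ} (h2 : Inner (r ^ 2 ^ k))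
    (ht : ∀ x ∈ P, x⁻¹ * r x ∈ R) : Inner r := by
  have := fact2
  obtain ⟨a, m, hm, ham⟩ := Nat.exists_eq_two_pow_mul_odd (orderOf_pos r).ne'
  have h1 : ∀ n : ℕ, ∀ x ∈ P, x⁻¹ * (r ^ n) x ∈ R := by
    intro n x hx
    induction n with
    | zero => simp
    | succ n ih =>
      have h3 := R.mul_mem (ht x hx) (OddHalf.CaseM.X.map_R h r hr ih)
      rw [map_mul, map_inv, mul_assoc, mul_inv_cancel_left] at h3
      rwa [pow_succ', MulAut.mul_apply]
  obtain ⟨s, -, hs⟩ := h.aut (r ^ m) (IsPGroup.of_card_dvd_pow (n := a) (by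
    rw [Nat.card_zpowers]
    apply orderOf_dvd_of_pow_eq_one
    rw [← pow_mul, mul_comm, ← ham, pow_orderOf_eq_one])) (pow_fix hr m) (h1 m)
  rw [inner_iff_mem] at h2 ⊢
  have h3 : r ^ m ∈ (MulAut.conj : S →* MulAut S).range := ⟨s, hs.symm⟩
  have h4 : Nat.Coprime m (2 ^ k) := (Nat.coprime_two_right.2 hm).pow_right k
  have h5 : r = (r ^ m) ^ Nat.gcdA m (2 ^ k) * (r ^ 2 ^ k) ^ Nat.gcdB m (2 ^ k) := by
    rw [← zpow_natCast, ← zpow_natCast, ← zpow_mul, ← zpow_mul, ← zpow_add, ← Nat.gcd_eq_gcd_ab, h4.gcd_eq_one]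
    simp
  rw [h5]
  exact mul_mem (zpow_mem h3 _) (zpow_mem h2 _)

/-- **reduction to `C(z)/R`** -/
theorem of_sheet (h : SheetX z P R) (π : centralizer ({z} : Set S) →* L) (hs : Function.Surjective π)
    (hk : ∀ x, π x = 1 ↔ (x : S) ∈ R) (T : Sylow 2 L) (hD : ¬ DG T) (hC : CF T) (hP : Phi T) :
    ∃ Q : Sylow 2 S, ¬ DG Q ∧ CF Q ∧ Phi Q := by
  obtain ⟨Q, hz, hc, hu⟩ := h.syl
  have hQ : (Q : Subgroup S) ≤ centralizer ({z} : Set S) := fun x hx => mem_centralizer_singleton_iff.2 (hc x hx)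
  have hk2 : IsPGroup 2 π.ker := by
    have h1 : π.ker = R.subgroupOf (centralizer ({z} : Set S)) := Subgroup.ext hk
    rw [h1]
    exact h.R2.comap_subtype
  refine ⟨Q, not_dg_of_hom hQ π hs hD, cf_of_hom hQ (centralizer_le (Set.singleton_subset_iff.2 hz)) π hs hk2 hC, ?_⟩
  intro r ⟨k, hrk⟩ hn hr y hy ho hm
  have hrz : r z = z := fix_z h.z1 hz hc hu hr
  have hyz : y ∈ centralizer ({z} : Set S) := by
    have h1 : MulAut.conj y z = z := fix_z h.z1 hz hc hu fun q hq => (mem_normalizer_iff.1 hy q).1 hq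
    rw [mem_centralizer_singleton_iff]
    exact mul_inv_eq_iff_eq_mul.1 h1
  obtain ⟨β, hβ⟩ := exists_ind h π hs hk hrz
  have hpow : ∀ (n : ℕ) (x : centralizer ({z} : Set S)),
      π ⟨(r ^ n) x, map_cent (pow_fix hrz n) x.2⟩ = (β ^ n) (π x) := by
    intro n x
    induction n with
    | zero => rfl
    | succ n ih =>
      rw [pow_succ' β, MulAut.mul_apply, ← ih, ← hβ]
      congr 2
      rw [pow_succ']
      rfl
  have h1 := hP.sylow (im hQ π hs) β ⟨k, by
      ext l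
      obtain ⟨x, rfl⟩ := hs l
      rw [← hpow]
      simp only [hrk, MulAut.one_apply]⟩
    (by
      rintro ⟨l, rfl⟩
      obtain ⟨c, rfl⟩ := hs l
      apply hn
      have h2 : Inner ((MulAut.conj (c : S))⁻¹ * r) := by
        refine inner_of_triv h (k := k) ?_ ?_ fun x hx => ?_
        · rw [MulAut.mul_apply, hrz, ← map_inv, MulAut.conj_apply, mem_centralizer_singleton_iff.1 (inv_mem c.2),
            mul_inv_cancel_right]
        · have := normal_inn (S := S)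
          rw [inner_iff_mem, ← QuotientGroup.eq_one_iff, QuotientGroup.mk_pow, QuotientGroup.mk_mul,
            (QuotientGroup.eq_one_iff _).2 (inv_mem (inner_iff_mem.1 ⟨(c : S), rfl⟩)), one_mul, ← QuotientGroup.mk_pow, hrk]
          rfl
        · have hx' : x ∈ centralizer ({z} : Set S) := mem_centralizer_singleton_iff.2 (h.cen x hx)
          have h3 := (hk (⟨x, hx'⟩⁻¹ * (c⁻¹ * ⟨r x, map_cent hrz hx'⟩ * c))).1 (by
            rw [map_mul, map_mul, map_mul, map_inv, map_inv, hβ ⟨x, hx'⟩, MulAut.conj_apply]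
            group)
          simpa using h3
      rw [inner_iff_mem] at h2 ⊢
      exact (Subgroup.mul_mem_cancel_left _ (inv_mem (inner_iff_mem.1 ⟨(c : S), rfl⟩))).1 h2)
    (by
      intro l hl
      obtain ⟨x, hx, rfl⟩ := mem_im.1 hl
      exact mem_im.2 ⟨_, hr x hx, hβ x⟩)
    (π ⟨y, hyz⟩)
    (by
      refine mem_normalizer_fintype fun l hl => ?_
      obtain ⟨x, hx, rfl⟩ := mem_im.1 hl
      exact mem_im.2 ⟨⟨y, hyz⟩ * x * ⟨y, hyz⟩⁻¹, (mem_normalizer_iff.1 hy x).1 hx, by rw [map_mul, map_mul, map_inv]⟩)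
    (odd_map π ho)
    (mem_im.2 ⟨⟨y, hyz⟩⁻¹ * ⟨r y, map_cent hrz hyz⟩, hm, by rw [map_mul, map_inv, hβ ⟨y, hyz⟩]⟩)
  exact eq_one_of_odd_of_mem h.R2 ((hk _).1 h1) ho

end sheet

end Cfsg.Agent.GAL.Spor
end

-- part: GAL/Spor/Janko
section
set_option linter.all false
open scoped Cfsg.Agent.FastGrp

/-!
# S4617 / S4618: the boxes of `J₁`, `J₂`, `J₃` (helper20, GAL)
-/

set_option autoImplicit false

namespace Cfsg.Agent.GAL.Spor

open Cfsg Cfsg.Spor Subgroup Equiv Cfsg.Agent.TAB.Use Cfsg.Agent.OddHalf.D8.JTwo.Sheet Cfsg.Agent.ODD.Alt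

universe u

theorem center_bot {S : Type u} [Group S] [IsSimpleGroup S] {Q : Sylow 2 S} (hD : ¬ DG Q) : center S = ⊥ := by
  rcases (inferInstance : (center S).Normal).eq_bot_or_eq_top with h | h
  · exact h
  · refine absurd (fun y _ _ => ?_) hD
    exact center_le_centralizer _ (h ▸ mem_top y)

/-! ### `A₅` -/

theorem sq_Q5 : ∀ y : A5, y * t5 = t5 * y → y ^ 2 = 1 := by (set_option synthInstance.maxSize 9000 in open scoped Cfsg.Agent.Lib.FastPerm in decide +kernel)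

theorem one_of_Q5 {y : A5} (hy : y ∈ (Q5 : Subgroup A5)) (ho : Odd (orderOf y)) : y = 1 :=
  eq_one_of_odd_of_mem Q5.isPGroup' hy ho

theorem cf5 : CF Q5 := fun _ hy ho =>
  one_of_Q5 (mem_Q5.2 (mem_centralizer_iff.1 hy t5 (mem_Q5.2 rfl)).symm) ho

/-- a second involution of `Q5` -/
def u5 : A5 := ⟨swap 0 2 * swap 1 3, Perm.mem_alternatingGroup.2 (by decide +kernel)⟩

set_option synthInstance.maxSize 4000 in
set_option synthInstance.maxHeartbeats 400000 in
theorem chk5 : ∀ s : Perm (Fin 5), Perm.sign s = -1 → s * t5 * s⁻¹ * t5 = t5 * (s * t5 * s⁻¹) →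
    s * u5 * s⁻¹ * t5 = t5 * (s * u5 * s⁻¹) → ∀ y : Perm (Fin 5), Perm.sign y = 1 →
      y * t5 * y⁻¹ * t5 = t5 * (y * t5 * y⁻¹) → y * u5 * y⁻¹ * t5 = t5 * (y * u5 * y⁻¹) →
      y⁻¹ * (s * y * s⁻¹) * t5 = t5 * (y⁻¹ * (s * y * s⁻¹)) → y * t5 = t5 * y := by (set_option synthInstance.maxSize 9000 in open scoped Cfsg.Agent.Lib.FastPerm in decide +kernel)

theorem phi5' (r : MulAut A5) (hn : ¬ Inner r) (hr : ∀ q ∈ (Q5 : Subgroup A5), r q ∈ (Q5 : Subgroup A5))
    (y : A5) (hy : y ∈ normalizer ((Q5 : Subgroup A5) : Set A5)) (ho : Odd (orderOf y))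
    (hm : y⁻¹ * r y ∈ (Q5 : Subgroup A5)) : y = 1 := by
  obtain ⟨s, rfl⟩ := (S2119.result 5 (by norm_num) (by norm_num)).2 r
  rw [inner_iff, Perm.mem_alternatingGroup] at hn
  have ht : t5 ∈ (Q5 : Subgroup A5) := mem_Q5.2 rfl
  have hu : u5 ∈ (Q5 : Subgroup A5) := mem_Q5.2 (by decide +kernel)
  refine one_of_Q5 (mem_Q5.2 (Subtype.ext (chk5 s ((Int.units_eq_one_or _).resolve_left hn)
    (congrArg Subtype.val (mem_Q5.1 (hr _ ht))) (congrArg Subtype.val (mem_Q5.1 (hr _ hu))) y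
    (Perm.mem_alternatingGroup.1 y.2) (congrArg Subtype.val (mem_Q5.1 ((mem_normalizer_iff.1 hy _).1 ht)))
    (congrArg Subtype.val (mem_Q5.1 ((mem_normalizer_iff.1 hy _).1 hu))) (congrArg Subtype.val (mem_Q5.1 hm))))) ho

theorem phi5 : Phi Q5 := fun r _ => phi5' r

/-! ### `J₂`, `J₃` -/

open Cfsg.Agent.J2Type.Model in
theorem box_of_model {S : Type} [Group S] [Finite S] [IsSimpleGroup S] {z : S} {Q : Subgroup (centralizer ({z} : Set S))}
    {z' : centralizer ({z} : Set S)} {v : Fin 5 → centralizer ({z} : Set S)} {ρ : centralizer ({z} : Set S) →* SP}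
    (M : IsModel Q z' v ρ) (h : SheetX z (centralizer ({z} : Set S)) (Q.map (centralizer ({z} : Set S)).subtype))
    (h2 : (MulAut.conj : S →* MulAut S).range.index = 1 ∨ (MulAut.conj : S →* MulAut S).range.index = 2)
    (hM : OddMoved S) (hA : OddSigAut S) : Box S := by
  obtain ⟨T, hD, hC, hP⟩ := of_sheet h (H72.ModelFacts.proj M) (H72.ModelFacts.proj_surj M) (fun x => by
    rw [← MonoidHom.mem_ker, H72.ModelFacts.proj_ker]
    exact ⟨fun hx => ⟨x, hx, rfl⟩, fun ⟨y, hy, e⟩ => (Subtype.ext e : y = x) ▸ hy⟩) Q5 not_dg5 cf5 phi5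
  exact box_of_phi (center_bot hD) T hD hC hP h2 hM hA

variable {S : Type} [Group S] [Finite S] [IsSimpleGroup S]

theorem box_j2 (h : IsoJ2 S) (hF : OddMoved J2 ∧ OddSigAut J2) : Box S := by
  obtain ⟨e⟩ := h
  have : Finite J2 := Finite.of_equiv _ e.toEquiv
  have : IsSimpleGroup J2 := e.symm.isSimpleGroup
  obtain ⟨t, u, Q, v, ρ, D⟩ := KFacts.J2.Basic.exists_dat
  exact Box.congr e (box_of_model D.M (KFacts.J2.SheetX.sheetX D) (KFacts.J2.SheetX.index_le D) hF.1 hF.2)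

theorem box_j3' (h : IsoJ3 S) (hF : OddMoved S ∧ OddSigAut S) : Box S := by
  obtain ⟨z, Q, v, ρ, M, -, h2, hE⟩ := OddHalf.D8.RowJ3.sheet' S h
  exact box_of_model M (of_sheetE hE) h2 hF.1 hF.2

theorem box_j3 (h : IsoJ3 S) (hF : ∀ (F : Type) [Field F] [Fintype F] (ω : F), Fintype.card F = 4 →
    ω ^ 2 + ω + 1 = 0 → OddMoved (J3 F ω) ∧ OddSigAut (J3 F ω)) : Box S := by
  obtain ⟨F, _, _, ω, h1, h2, ⟨e⟩⟩ := h
  have : Finite (J3 F ω) := Finite.of_equiv _ e.toEquiv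
  have : IsSimpleGroup (J3 F ω) := e.symm.isSimpleGroup
  exact Box.congr e (box_j3' ⟨F, _, _, ω, h1, h2, ⟨MulEquiv.refl _⟩⟩ (hF F ω h1 h2))

/-! ### `J₁` -/

theorem sq_zmod2 : ∀ a : Multiplicative (ZMod 2), a ^ 2 = 1 := by decide

theorem box_j1 (h : IsoJ1 S) (hF : OddMoved J1) : Box S := by
  have := fact2
  obtain ⟨e⟩ := h
  have : Finite J1 := Finite.of_equiv _ e.toEquiv
  have : IsSimpleGroup J1 := e.symm.isSimpleGroup
  refine Box.congr e ?_
  let Q : Sylow 2 J1 := default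
  have hsq := H161.RowReeJ1.j1_sq Q
  have hd : 2 ∣ Nat.card (Q : Subgroup J1) := Q.dvd_card_of_dvd_card (by rw [H413.JOneLocal.card_J1]; norm_num)
  obtain ⟨z, hz⟩ := exists_prime_orderOf_dvd_card' 2 hd
  obtain ⟨c⟩ := H413.JOneLocal.isLocal.cent (z : J1) (by rw [orderOf_coe, hz])
  have hQ : (Q : Subgroup J1) ≤ centralizer ({(z : J1)} : Set J1) := by
    intro x hx
    rw [mem_centralizer_singleton_iff]
    have h1 := hsq _ (mul_mem hx z.2)
    have h2 : x⁻¹ = x := inv_eq_of_mul_eq_one_right (hsq x hx)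
    have h3 : (z : J1)⁻¹ = z := inv_eq_of_mul_eq_one_right (hsq z z.2)
    rw [← inv_eq_of_mul_eq_one_right h1, mul_inv_rev, h2, h3]
  let π : centralizer ({(z : J1)} : Set J1) →* A5 := (MonoidHom.snd _ _).comp c.toMonoidHom
  have hs : Function.Surjective π := Prod.snd_surjective.comp c.surjective
  have hk : IsPGroup 2 π.ker := by
    intro x
    refine ⟨1, Subtype.ext (c.injective ?_)⟩
    have h1 : (c x).2 = 1 := x.2
    rw [pow_one, coe_pow, map_pow, coe_one, map_one]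
    exact Prod.ext (sq_zmod2 _) (by rw [Prod.pow_snd, h1, one_pow]; rfl)
  have hD : ¬ DG Q := not_dg_of_hom hQ π hs not_dg5
  exact box_of_inner (center_bot hD) (fun r _ => OddHalf.D4.Spor.J1Out.inn r) Q (iff_of_false hD
    (not_fg_of_moved Q (cf_of_hom hQ (centralizer_le (Set.singleton_subset_iff.2 z.2)) π hs hk cf5) hF))

end Cfsg.Agent.GAL.Spor
end

-- part: GAL/Spor/HN
section
prune_inst 0x40000e2105c00200001c0010a00000c1110000020040000100460502000440202506a00148800710180080400000000002000000401000000a00080040000020900244028308000c64000900a003190c00000000000000000000000000000000004010000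
set_option linter.all false
open scoped Cfsg.Agent.FastGrp

/-!
# S4617 / S4618: the box of `HN` (helper20, GAL)

The quotient `(A₅ × A₅).2` of the centralizer of a 2-central involution.
-/

set_option autoImplicit false

namespace Cfsg.Agent.GAL.Spor

open Cfsg Cfsg.Spor Subgroup Cfsg.Agent.TAB.Use Cfsg.Agent.OddHalf.D8.JTwo.Sheet Cfsg.Agent.ODD.Alt

section wr

variable {L : Type} [Group L]

/-- two commuting copies of `A₅` which are interchanged by an element of the Sylow subgroup -/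
structure Wr (φ ψ : A5 →* L) (T : Sylow 2 L) (t : L) : Prop where
  comm : ∀ a b, φ a * ψ b = ψ b * φ a
  inj : ∀ a b, φ a * ψ b = 1 → a = 1 ∧ b = 1
  mem : ∀ a b, φ a * ψ b ∈ (T : Subgroup L) ↔ a ∈ (Q5 : Subgroup A5) ∧ b ∈ (Q5 : Subgroup A5)
  tT : t ∈ (T : Subgroup L)
  sw1 : ∀ a, ∃ b, t * φ a * t⁻¹ = ψ b
  sw2 : ∀ b, ∃ a, t * ψ b * t⁻¹ = φ a
  odd : ∀ y : L, Odd (orderOf y) → ∃ a b, y = φ a * ψ b
  all : ∀ x : L, (∃ a b, x = φ a * ψ b) ∨ ∃ a b, x = φ a * ψ b * t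
  cent : ∀ x : L, (∀ a b, x * (φ a * ψ b) = φ a * ψ b * x) → x = 1
  aut : ∀ β : MulAut L, ((∀ a, ∃ a', β (φ a) = φ a') ∧ ∀ b, ∃ b', β (ψ b) = ψ b') ∨
    ((∀ a, ∃ b', β (φ a) = ψ b') ∧ ∀ b, ∃ a', β (ψ b) = φ a')

variable {φ ψ : A5 →* L} {T : Sylow 2 L} {t : L}

theorem Wr.symm (h : Wr φ ψ T t) : Wr ψ φ T t where
  comm a b := (h.comm b a).symm
  inj a b e := (h.inj b a (by rwa [h.comm])).symm
  mem a b := by rw [← h.comm, h.mem, and_comm]
  tT := h.tT
  sw1 := h.sw2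
  sw2 := h.sw1
  odd y hy := by
    obtain ⟨a, b, e⟩ := h.odd y hy
    exact ⟨b, a, by rwa [← h.comm]⟩
  all x := by
    rcases h.all x with ⟨a, b, e⟩ | ⟨a, b, e⟩
    · exact Or.inl ⟨b, a, by rwa [← h.comm]⟩
    · exact Or.inr ⟨b, a, by rwa [← h.comm]⟩
  cent x hx := h.cent x fun a b => by rw [h.comm]; exact hx b a
  aut β := (h.aut β).imp And.symm And.symm

theorem Wr.inj1 (h : Wr φ ψ T t) : Function.Injective φ :=
  (injective_iff_map_eq_one φ).2 fun a e => (h.inj a 1 (by rw [e, map_one, mul_one])).1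

theorem Wr.mem1 (h : Wr φ ψ T t) {a : A5} : φ a ∈ (T : Subgroup L) ↔ a ∈ (Q5 : Subgroup A5) := by
  have h1 := h.mem a 1
  rw [map_one, mul_one] at h1
  exact h1.trans (and_iff_left (one_mem _))

theorem Wr.conj1 (h : Wr φ ψ T t) (a b x : A5) : φ a * ψ b * φ x * (φ a * ψ b)⁻¹ = φ (a * x * a⁻¹) := by
  rw [map_mul, map_mul, map_inv, mul_assoc (φ a), ← h.comm]
  group

theorem Wr.mul (h : Wr φ ψ T t) (a b a' b' : A5) : φ a * ψ b * (φ a' * ψ b') = φ (a * a') * ψ (b * b') := by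
  rw [map_mul, map_mul, mul_assoc, ← mul_assoc (ψ b), ← h.comm]
  group

theorem Wr.inv (h : Wr φ ψ T t) (a b : A5) : (φ a * ψ b)⁻¹ = φ a⁻¹ * ψ b⁻¹ := by
  rw [inv_eq_iff_mul_eq_one, h.mul, mul_inv_cancel, mul_inv_cancel, map_one, map_one, mul_one]

theorem Wr.odd1 (h : Wr φ ψ T t) {a b : A5} (ho : Odd (orderOf (φ a * ψ b))) : Odd (orderOf a) := by
  refine Odd.of_dvd_nat ho (orderOf_dvd_of_pow_eq_one ?_)
  have h1 := pow_orderOf_eq_one (φ a * ψ b)
  rw [Commute.mul_pow (h.comm a b), ← map_pow, ← map_pow] at h1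
  exact (h.inj _ _ h1).1

theorem Wr.cf1 (h : Wr φ ψ T t) {a b : A5} (hy : φ a * ψ b ∈ centralizer ((T : Subgroup L) : Set L))
    (ho : Odd (orderOf (φ a * ψ b))) : a = 1 := by
  refine cf5 a ?_ (h.odd1 ho)
  rw [mem_centralizer_iff]
  intro q hq
  have h1 := mem_centralizer_iff.1 hy (φ q) (h.mem1.2 hq)
  have h2 := h.conj1 a b q
  rw [← h1, mul_inv_cancel_right] at h2
  exact (mul_inv_eq_iff_eq_mul.1 (h.inj1 h2).symm).symm

theorem Wr.cf (h : Wr φ ψ T t) : CF T := by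
  intro y hy ho
  obtain ⟨a, b, rfl⟩ := h.odd y ho
  have h1 : b = 1 := h.symm.cf1 (b := a) (by rwa [← h.comm]) (by rwa [← h.comm])
  rw [h.cf1 hy ho, h1, map_one, map_one, mul_one]

theorem Wr.not_mem (h : Wr φ ψ T t) (a b : A5) : t ≠ φ a * ψ b := by
  intro e
  obtain ⟨c, hc⟩ := h.sw1 t5
  have hc' : φ (a * t5 * a⁻¹) = ψ c := by rw [← hc, ← h.conj1 a b, ← e]
  have h1 := (h.inj (a * t5 * a⁻¹) c⁻¹ (by rw [hc', map_inv, mul_inv_cancel])).1
  rw [conj_eq_one_iff] at h1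
  exact absurd h1 (by decide +kernel)

theorem Wr.sw1' (h : Wr φ ψ T t) (b : A5) : ∃ a, t * φ a * t⁻¹ = ψ b := by
  choose f hf using h.sw1
  have h1 : Function.Injective f := fun a a' e => h.inj1 ((MulAut.conj t).injective (by
    rw [MulAut.conj_apply, MulAut.conj_apply, hf, hf, e]))
  obtain ⟨a, rfl⟩ := Finite.surjective_of_injective h1 b
  exact ⟨a, hf a⟩

theorem Wr.not_dg [Finite L] (h : Wr φ ψ T t) : ¬ DG T := by
  intro hD
  have hc : ∀ g : A5, g * t5 = t5 * g → c5 * g * c5⁻¹ * t5 = t5 * (c5 * g * c5⁻¹) := by decide +kernel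
  have hcQ : ∀ q ∈ (Q5 : Subgroup A5), c5 * q * c5⁻¹ ∈ (Q5 : Subgroup A5) := fun q hq => mem_Q5.2 (hc q (mem_Q5.1 hq))
  have hc3 : c5 ^ 3 = 1 := by decide +kernel
  obtain ⟨b, hb⟩ := h.sw1 c5
  have hb3 : b ^ 3 = 1 := h.symm.inj1 (by rw [map_pow, ← hb, conj_pow, ← map_pow, hc3, map_one, map_one]; group)
  have hbQ : ∀ q ∈ (Q5 : Subgroup A5), b * q * b⁻¹ ∈ (Q5 : Subgroup A5) := by
    intro q hq
    obtain ⟨p, hp⟩ := h.sw1' q
    have h1 : p ∈ (Q5 : Subgroup A5) := by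
      rw [← h.mem1, show φ p = t⁻¹ * ψ q * t by rw [← hp]; group]
      exact mul_mem (mul_mem (inv_mem h.tT) (h.symm.mem1.2 hq)) h.tT
    rw [← h.symm.mem1, map_mul, map_mul, map_inv, ← hb, ← hp,
      show t * φ c5 * t⁻¹ * (t * φ p * t⁻¹) * (t * φ c5 * t⁻¹)⁻¹ = t * (φ c5 * φ p * (φ c5)⁻¹) * t⁻¹ by group,
      ← map_inv, ← map_mul, ← map_mul]
    exact mul_mem (mul_mem h.tT (h.mem1.2 (hcQ p h1))) (inv_mem h.tT)
  have h1 : ∀ p q, φ p * ψ q ∈ (T : Subgroup L) →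
      φ c5 * ψ b * (φ p * ψ q) * (φ c5 * ψ b)⁻¹ ∈ (T : Subgroup L) := by
    intro p q hpq
    rw [h.inv, h.mul, h.mul]
    exact (h.mem _ _).2 ⟨hcQ p ((h.mem _ _).1 hpq).1, hbQ q ((h.mem _ _).1 hpq).2⟩
  have h2 : φ c5 * ψ b * t * (φ c5 * ψ b)⁻¹ ∈ (T : Subgroup L) := by
    obtain ⟨p, q, hpq⟩ := (h.all (t * t)).resolve_right fun ⟨p, q, e⟩ => h.not_mem p q (mul_right_cancel e)
    have h3 : p ∈ (Q5 : Subgroup A5) := ((h.mem p q).1 (hpq ▸ mul_mem h.tT h.tT)).1
    have h4 : t * ψ b * t⁻¹ = φ (p * c5 * p⁻¹) := by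
      rw [← h.conj1 p q, ← hpq, ← hb]
      group
    have h5 : φ c5 * ψ b * t * (φ c5 * ψ b)⁻¹ = φ c5 * ψ b * (t * φ c5 * t⁻¹ * (t * ψ b * t⁻¹))⁻¹ * t := by group
    rw [h5, hb, h4, ← h.comm, h.inv, h.mul]
    refine mul_mem ((h.mem _ _).2 ⟨?_, by rw [mul_inv_cancel]; exact one_mem _⟩) h.tT
    rw [show c5 * (p * c5 * p⁻¹)⁻¹ = c5 * p * c5⁻¹ * p⁻¹ by group]
    exact mul_mem (hcQ p h3) (inv_mem h3)
  have h3 := hD (φ c5 * ψ b) (mem_normalizer_fintype fun x hx => by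
      rcases h.all x with ⟨p, q, rfl⟩ | ⟨p, q, rfl⟩
      · exact h1 p q hx
      · rw [show φ c5 * ψ b * (φ p * ψ q * t) * (φ c5 * ψ b)⁻¹ =
          φ c5 * ψ b * (φ p * ψ q) * (φ c5 * ψ b)⁻¹ * (φ c5 * ψ b * t * (φ c5 * ψ b)⁻¹) by group]
        exact mul_mem (h1 p q ((Subgroup.mul_mem_cancel_right _ h.tT).1 hx)) h2)
    (Odd.of_dvd_nat (by decide : Odd 3) (orderOf_dvd_of_pow_eq_one (by
      rw [Commute.mul_pow (h.comm _ _), ← map_pow, ← map_pow, hc3, hb3, map_one, map_one, mul_one])))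
  have h4 := mem_centralizer_iff.1 h3 (φ t5) (h.mem1.2 (mem_Q5.2 rfl))
  have h5 := h.conj1 c5 b t5
  rw [← h4, mul_inv_cancel_right] at h5
  exact absurd (h.inj1 h5) (by decide +kernel)

theorem Wr.phi1 (h : Wr φ ψ T t) {β : MulAut L} (h1 : ∀ a, ∃ a', β (φ a) = φ a') (h2 : ∀ b, ∃ b', β (ψ b) = ψ b')
    (hT : ∀ q ∈ (T : Subgroup L), β q ∈ (T : Subgroup L)) (hn : ¬ ∃ s, ∀ a, β (φ a) = φ (s * a * s⁻¹)) {a b : A5}
    (hy : φ a * ψ b ∈ normalizer ((T : Subgroup L) : Set L)) (ho : Odd (orderOf (φ a * ψ b)))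
    (hm : (φ a * ψ b)⁻¹ * β (φ a * ψ b) ∈ (T : Subgroup L)) : φ a * ψ b = 1 := by
  choose f hf using h1
  let g : A5 →* A5 := MonoidHom.mk' f fun x y => h.inj1 (by rw [map_mul, ← hf, ← hf, ← hf, map_mul, map_mul])
  have hg : Function.Injective g := fun x y e => h.inj1 (β.injective (by
    rw [hf, hf]
    exact congrArg φ e))
  let r : MulAut A5 := MulEquiv.ofBijective g ⟨hg, Finite.surjective_of_injective hg⟩
  have hr : ∀ x, β (φ x) = φ (r x) := hf
  obtain ⟨b', hb'⟩ := h2 b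
  have ha : a = 1 := phi5' r (fun ⟨s, hs⟩ => hn ⟨s, fun x => by rw [hr, hs, MulAut.conj_apply]⟩)
    (fun q hq => h.mem1.1 (hr q ▸ hT _ (h.mem1.2 hq))) a
    (mem_normalizer_fintype fun q hq => h.mem1.1 (h.conj1 a b q ▸ (mem_normalizer_iff.1 hy _).1 (h.mem1.2 hq)))
    (h.odd1 ho) (by
      rw [map_mul, hr, hb', h.inv, h.mul] at hm
      exact ((h.mem _ _).1 hm).1)
  have hb : Odd (orderOf b) := h.symm.odd1 (a := b) (b := a) (by rwa [← h.comm])
  rw [ha, map_one, one_mul] at hy ⊢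
  obtain ⟨a', ha'⟩ := h.sw2 b
  have h3 := mul_mem ((mem_normalizer_iff.1 (inv_mem hy) t).1 h.tT) (inv_mem h.tT)
  rw [inv_inv, show (ψ b)⁻¹ * t * ψ b * t⁻¹ = (ψ b)⁻¹ * (t * ψ b * t⁻¹) by group, ha', ← map_inv, ← h.comm] at h3
  rw [one_of_Q5 (inv_mem_iff.1 ((h.mem _ _).1 h3).2) hb, map_one]

theorem Wr.phi2 (h : Wr φ ψ T t) {β : MulAut L} (h1 : ∀ a, ∃ a', β (φ a) = φ a') (h2 : ∀ b, ∃ b', β (ψ b) = ψ b')
    (hT : ∀ q ∈ (T : Subgroup L), β q ∈ (T : Subgroup L)) (hn : ¬ Inner β) {y : L}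
    (hy : y ∈ normalizer ((T : Subgroup L) : Set L)) (ho : Odd (orderOf y)) (hm : y⁻¹ * β y ∈ (T : Subgroup L)) :
    y = 1 := by
  obtain ⟨a, b, rfl⟩ := h.odd y ho
  by_cases h3 : ∃ s, ∀ a, β (φ a) = φ (s * a * s⁻¹)
  · by_cases h4 : ∃ s, ∀ b, β (ψ b) = ψ (s * b * s⁻¹)
    · obtain ⟨s, hs⟩ := h3
      obtain ⟨s', hs'⟩ := h4
      have h5 : ∀ a b, β (φ a * ψ b) = φ s * ψ s' * (φ a * ψ b) * (φ s * ψ s')⁻¹ := fun a b => by
        rw [map_mul, hs, hs', h.inv, h.mul, h.mul]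
      refine absurd ⟨φ s * ψ s', MulEquiv.ext fun x => ?_⟩ hn
      have h6 : ∀ a b, ∃ a' b', x * (φ a * ψ b) * x⁻¹ = φ a' * ψ b' := by
        intro a b
        rcases h.all x with ⟨p, q, rfl⟩ | ⟨p, q, rfl⟩
        · exact ⟨_, _, by rw [h.inv, h.mul, h.mul]⟩
        · obtain ⟨b', hb'⟩ := h.sw1 a
          obtain ⟨a', ha'⟩ := h.sw2 b
          refine ⟨p * a' * p⁻¹, q * b' * q⁻¹, ?_⟩
          rw [← h.mul, ← h.mul, ← h.inv, h.comm a', ← hb', ← ha']
          group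
      have h7 := h.cent (x⁻¹ * ((φ s * ψ s')⁻¹ * β x * (φ s * ψ s'))) fun a b => by
        obtain ⟨a', b', e⟩ := h6 a b
        have h8 := h5 a' b'
        rw [← e, map_mul, map_mul β x, map_inv, h5] at h8
        generalize φ s * ψ s' = l at h8 ⊢
        generalize φ a * ψ b = m at h8 ⊢
        calc x⁻¹ * (l⁻¹ * β x * l) * m = x⁻¹ * l⁻¹ * (β x * (l * m * l⁻¹) * (β x)⁻¹) * β x * l := by group
          _ = m * (x⁻¹ * (l⁻¹ * β x * l)) := by rw [h8]; group
      have h8 := inv_mul_eq_one.1 h7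
      calc β x = φ s * ψ s' * ((φ s * ψ s')⁻¹ * β x * (φ s * ψ s')) * (φ s * ψ s')⁻¹ := by group
        _ = _ := by rw [← h8, MulAut.conj_apply]
    · rw [h.comm] at hy ho hm ⊢
      exact h.symm.phi1 h2 h1 hT h4 hy ho hm
  · exact h.phi1 h1 h2 hT h3 hy ho hm

theorem Wr.phi (h : Wr φ ψ T t) : Phi T := by
  intro β _ hn hT y hy ho hm
  rcases h.aut β with ⟨h1, h2⟩ | ⟨h1, h2⟩
  · exact h.phi2 h1 h2 hT hn hy ho hm
  · refine h.phi2 (β := MulAut.conj t * β) (fun a => ?_) (fun b => ?_) (fun q hq => ?_) (fun e => hn ?_) hy ho ?_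
    · obtain ⟨b', hb'⟩ := h1 a
      obtain ⟨a', ha'⟩ := h.sw2 b'
      exact ⟨a', by rw [MulAut.mul_apply, hb', MulAut.conj_apply, ha']⟩
    · obtain ⟨a', ha'⟩ := h2 b
      obtain ⟨b', hb'⟩ := h.sw1 a'
      exact ⟨b', by rw [MulAut.mul_apply, ha', MulAut.conj_apply, hb']⟩
    · exact mul_mem (mul_mem h.tT (hT q hq)) (inv_mem h.tT)
    · rw [inner_iff_mem] at e ⊢
      exact (Subgroup.mul_mem_cancel_left _ (inner_iff_mem.1 ⟨t, rfl⟩)).1 e
    · have h3 := mul_mem (mul_mem ((mem_normalizer_iff.1 (inv_mem hy) t).1 h.tT) hm) (inv_mem h.tT)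
      rw [MulAut.mul_apply, MulAut.conj_apply, show y⁻¹ * (t * β y * t⁻¹) = y⁻¹ * t * y⁻¹⁻¹ * (y⁻¹ * β y) * t⁻¹ by group]
      exact h3

end wr

open Cfsg.Agent.KFacts.HN hiding A5 in
/-- the quotient of the centralizer in `HN` -/
theorem exists_wr : ∃ (T : Sylow 2 Lq) (t : Lq), Wr φA φB T t := by
  have := fact2
  have := KFacts.HN.finite_HN
  have hfin : Finite Lq := Finite.of_surjective _ ρ_surj
  have hp : IsPGroup 2 (((Q5 : Subgroup A5).prod (Q5 : Subgroup A5)).map φ2) := by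
    refine IsPGroup.map (fun x => ⟨1, Subtype.ext (Prod.ext ?_ ?_)⟩) _
    · exact sq_Q5 _ (mem_Q5.1 x.2.1)
    · exact sq_Q5 _ (mem_Q5.1 x.2.2)
  obtain ⟨T, hT⟩ := hp.exists_le_sylow
  have hinj : Function.Injective φ2 := fun x y e => Prod.ext (φ2_inj e).1 (φ2_inj e).2
  have hW : IsPGroup 2 ((T : Subgroup Lq).comap φ2) := T.isPGroup'.comap_of_injective _ hinj
  have h1 : ((T : Subgroup Lq).comap φ2).map (MonoidHom.fst _ _) = Q5 :=
    Q5.is_maximal' (hW.map _) fun q hq => ⟨(q, 1), hT ⟨(q, 1), ⟨hq, one_mem _⟩, rfl⟩, rfl⟩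
  have h2 : ((T : Subgroup Lq).comap φ2).map (MonoidHom.snd _ _) = Q5 :=
    Q5.is_maximal' (hW.map _) fun q hq => ⟨(1, q), hT ⟨(1, q), ⟨one_mem _, hq⟩, rfl⟩, rfl⟩
  obtain ⟨t, ht, htL⟩ : ∃ t ∈ (T : Subgroup Lq), t ∉ LL := by
    by_contra hc
    push Not at hc
    have h3 : LL.index ∣ (T : Subgroup Lq).index := index_dvd_of_le hc
    rw [index_LL] at h3
    exact T.not_dvd_index h3
  obtain ⟨l, hl, rfl⟩ := (LL_or t).resolve_left htL
  obtain ⟨p, q, rfl⟩ := mem_LL.1 hl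
  obtain ⟨p', q', hpq⟩ := mem_LL.1 e11_mem
  have hA : ∀ a b x, φA a * φB b * φA x * (φA a * φB b)⁻¹ = φA (a * x * a⁻¹) := by
    intro a b x
    rw [map_mul, map_mul, map_inv, mul_assoc (φA a), ← comm_AB]
    group
  have hB : ∀ a b x, φA a * φB b * φB x * (φA a * φB b)⁻¹ = φB (b * x * b⁻¹) := by
    intro a b x
    rw [map_mul, map_mul, map_inv, comm_AB a b, mul_assoc (φB b), comm_AB]
    group
  have hcard : ∀ {M N : Subgroup Lq}, (M = AA ∨ M = BB) → (N = AA ∨ N = BB) → Nat.card M = Nat.card N := by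
    have hA : Nat.card AA = Nat.card A5 := (Nat.card_congr (MonoidHom.ofInjective φA_inj).toEquiv).symm
    have hB : Nat.card BB = Nat.card A5 := (Nat.card_congr (MonoidHom.ofInjective φB_inj).toEquiv).symm
    rintro M N (rfl | rfl) (rfl | rfl) <;> simp only [hA, hB]
  have ht5 : t5 ≠ 1 := by decide +kernel
  have hLL : ∀ β : MulAut Lq, LL ≤ LL.map β.toMonoidHom := by
    intro β
    have := normal_LL.map β.toMonoidHom β.surjective
    refine LL_le_of_normal fun e => ht5 (φA_inj ?_)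
    have h3 : β (φA t5) ∈ LL.map β.toMonoidHom := ⟨_, A_mem t5, rfl⟩
    rw [e, mem_bot, map_eq_one_iff β β.injective] at h3
    rw [h3, map_one]
  have hmap : ∀ (β : MulAut Lq) {M : Subgroup Lq}, (M = AA ∨ M = BB) →
      M.map β.toMonoidHom = AA ∨ M.map β.toMonoidHom = BB := by
    intro β M hM
    have h3 : Nat.card (M.map β.toMonoidHom) = Nat.card M := card_map_of_injective β.injective
    have h4 := A_or_B_le (N := M.map β.toMonoidHom) (by
      rintro l hl _ ⟨n, hn, rfl⟩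
      obtain ⟨l', hl', rfl⟩ := hLL β hl
      refine ⟨l' * n * l'⁻¹, ?_, by rw [map_mul, map_mul, map_inv]⟩
      obtain ⟨a, b, rfl⟩ := mem_LL.1 hl'
      rcases hM with rfl | rfl
      · obtain ⟨x, rfl⟩ := hn
        exact ⟨_, (hA a b x).symm⟩
      · obtain ⟨x, rfl⟩ := hn
        exact ⟨_, (hB a b x).symm⟩) (by
      intro e
      rw [map_eq_bot_iff_of_injective _ β.injective] at e
      rcases hM with rfl | rfl
      · exact ht5 (φA_inj ((mem_bot.1 (e ▸ (⟨t5, rfl⟩ : φA t5 ∈ AA))).trans (map_one _).symm))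
      · exact ht5 (φB_inj ((mem_bot.1 (e ▸ (⟨t5, rfl⟩ : φB t5 ∈ BB))).trans (map_one _).symm)))
    rcases h4 with h4 | h4
    · exact Or.inl (eq_of_le_of_card_ge h4 (by rw [h3, hcard hM (Or.inl rfl)])).symm
    · exact Or.inr (eq_of_le_of_card_ge h4 (by rw [h3, hcard hM (Or.inr rfl)])).symm
  have hne : AA ≠ BB := fun e => by
    obtain ⟨b, hb⟩ : φA t5 ∈ BB := e ▸ (⟨t5, rfl⟩ : φA t5 ∈ AA)
    exact ht5 (A_inter_B hb.symm).1
  refine ⟨T, _, comm_AB, fun a b e => φ2_inj (by rw [e, map_one, map_one, mul_one]),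
    fun a b => ⟨fun e => ⟨h1 ▸ ⟨(a, b), e, rfl⟩, h2 ▸ ⟨(a, b), e, rfl⟩⟩, fun e => hT ⟨(a, b), e, rfl⟩⟩, ht,
    fun a => ⟨q * (q' * a * q'⁻¹) * q⁻¹, ?_⟩, fun b => ⟨p * b * p⁻¹, ?_⟩, fun y hy => ?_, fun x => ?_,
    fun x hx => cent_LL fun y hy => ?_, fun β => ?_⟩
  · rw [← hB p, ← hB p', hpq, φB_apply a, show ([1, 1] : List ℕ) = [1] ++ [1] from rfl, e_append]
    group
  · rw [← hA p q, φB_apply b]
    group
  · have h3 : y ∈ LL := by
      obtain ⟨k, hk⟩ := hy
      have h4 : y = (y ^ (k + 1)) ^ 2 := by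
        rw [← pow_mul, show (k + 1) * 2 = 2 * k + 1 + 1 by ring, ← hk, pow_succ, pow_orderOf_eq_one, one_mul]
      rw [h4]
      exact sq_mem_of_index_two index_LL _
    obtain ⟨a, b, e⟩ := mem_LL.1 h3
    exact ⟨a, b, e.symm⟩
  · by_cases hx : x ∈ LL
    · obtain ⟨a, b, e⟩ := mem_LL.1 hx
      exact Or.inl ⟨a, b, e.symm⟩
    · obtain ⟨a, b, e⟩ := mem_LL.1 ((mul_mem_iff_of_index_two index_LL).2
        (iff_of_false hx fun e => htL (inv_mem_iff.1 e)))
      exact Or.inr ⟨a, b, by rw [e, inv_mul_cancel_right]⟩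
  · obtain ⟨a, b, rfl⟩ := mem_LL.1 hy
    exact hx a b
  · have h3 : AA.map β.toMonoidHom ≠ BB.map β.toMonoidHom := fun e => hne (map_injective β.injective e)
    have h4 : ∀ a, β (φA a) ∈ AA.map β.toMonoidHom := fun a => ⟨_, ⟨a, rfl⟩, rfl⟩
    have h5 : ∀ a, β (φB a) ∈ BB.map β.toMonoidHom := fun a => ⟨_, ⟨a, rfl⟩, rfl⟩
    rcases hmap β (Or.inl rfl) with h6 | h6 <;> rcases hmap β (Or.inr rfl) with h7 | h7
    · exact absurd (h6.trans h7.symm) h3
    · rw [h6] at h4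
      rw [h7] at h5
      exact Or.inl ⟨fun a => (h4 a).imp fun _ => Eq.symm, fun a => (h5 a).imp fun _ => Eq.symm⟩
    · rw [h6] at h4
      rw [h7] at h5
      exact Or.inr ⟨fun a => (h4 a).imp fun _ => Eq.symm, fun a => (h5 a).imp fun _ => Eq.symm⟩
    · exact absurd (h6.trans h7.symm) h3

open Cfsg.Agent.KFacts.HN hiding A5 in
theorem box_hn {S : Type} [Group S] [Finite S] [IsSimpleGroup S] (h : IsoHN S) (hF : OddMoved HN ∧ OddSigAut HN) :
    Box S := by
  obtain ⟨e⟩ := h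
  have : Finite HN := Finite.of_equiv _ e.toEquiv
  have : IsSimpleGroup HN := e.symm.isSimpleGroup
  have hfin : Finite Lq := Finite.of_surjective _ ρ_surj
  obtain ⟨T, t, W⟩ := exists_wr
  obtain ⟨Q, hD, hC, hP⟩ := of_sheet (of_sheetE sheetE) ρ ρ_surj (fun x =>
    ⟨fun hx => ⟨x, hx, rfl⟩, fun ⟨y, hy, e⟩ => (Subtype.ext e : y = x) ▸ hy⟩) T W.not_dg W.cf W.phi
  exact Box.congr e (box_of_phi (center_bot hD) Q hD hC hP out_index hF.1 hF.2)

end Cfsg.Agent.GAL.Spor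
end

-- part: GAL/Spor/Suz
section
set_option linter.all false
open scoped Cfsg.Agent.FastGrp

/-!
# S4617 / S4618: the box of `Suz` (helper20, GAL)

An automorphism which normalizes the Sylow subgroup `T` and inverts `N(T)/T`.
-/

set_option autoImplicit false
set_option maxRecDepth 100000

namespace Cfsg.Agent.GAL.Spor.Sz

open Cfsg Cfsg.Spor Subgroup Cfsg.Agent.TAB.Use Cfsg.Agent.SuzThree.CentA Cfsg.Agent.SuzThree.QZero
  Cfsg.Agent.KFacts.Codes Cfsg.Agent.KFacts.Orbits Cfsg.Agent.H895.Pron.SuzS Cfsg.Agent.H895.Pron.SuzB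
  Cfsg.Agent.KFacts.SuzRho Cfsg.Agent.KFacts.SuzInvol Cfsg.Agent.KFacts.SuzInvolTab

open Cfsg.Agent.KFacts.SuzR hiding s1 s2
open Cfsg.Agent.Schreier.Suz (T T₀)

/-- the correcting element -/
noncomputable def gz : Suz := gg 3 * (gg 0 * (gg 3 * (gg 2 * (gg 0 * (gg 2 * gg 0)))))

/-- the automorphism -/
noncomputable def ph : MulAut Suz := MulAut.conj gz * rho

/-- its action on codes -/
def fc (c : ℕ) : ℕ := AA 3 (AA 0 (AA 3 (AA 2 (AA 0 (AA 2 (AA 0 (act BB 6 (img rl) c)))))))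

theorem ph_z : ph z0 = z0 := by
  have h : gz ∈ C1 := mul_mem (gg_mem 3) (mul_mem (gg_mem 0) (mul_mem (gg_mem 3) (mul_mem (gg_mem 2)
    (mul_mem (gg_mem 0) (mul_mem (gg_mem 2) (gg_mem 0))))))
  rw [ph, MulAut.mul_apply, rho_z, MulAut.conj_apply, mem_C1.1 h, mul_inv_cancel_right]

theorem ph_C (c : ℕ) : ph (C c) = C (fc c) := by
  rw [ph, MulAut.mul_apply, map_act rho_z rho_xx, fc, ← conj_AA, ← conj_AA, ← conj_AA, ← conj_AA, ← conj_AA,
    ← conj_AA, ← conj_AA, MulAut.conj_apply, gz]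
  group

theorem ph_flag {x : Suz} (hx : x ∈ normalizer (T : Set Suz)) : ∃ s ∈ T, ∃ k : ℕ, ph x = s * w ^ k := by
  obtain ⟨h0, h1, h2⟩ := N_T hx
  have key : ∀ (l : List ℕ), (∀ c ∈ l, fc c ∈ l) → (∀ c ∈ l, ∃ d ∈ l, fc d = c) →
      (∀ a, (∃ c ∈ l, C c = a) → ∃ c ∈ l, C c = x * a * x⁻¹) →
      ∀ a, (∃ c ∈ l, C c = a) → ∃ c ∈ l, C c = ph x * a * (ph x)⁻¹ := by
    rintro l e1 e2 e3 _ ⟨c, hc, rfl⟩
    obtain ⟨d, hd, rfl⟩ := e2 c hc
    obtain ⟨d', hd', e⟩ := e3 _ ⟨d, hd, rfl⟩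
    exact ⟨fc d', e1 d' hd', by rw [← ph_C, ← ph_C, e, map_mul, map_mul, map_inv]⟩
  refine of_flag ?_ (key lA1 (by decide +kernel) (by decide +kernel) h1)
    (key lA2 (by decide +kernel) (by decide +kernel) h2)
  rw [← ph_z, ← map_mul, ← map_mul, h0]

theorem ph_T {t : Suz} (ht : t ∈ T) : ph t ∈ T := by
  have := fact2
  obtain ⟨s, hs, k, hk⟩ := ph_flag (le_normalizer ht)
  have h1 : ph t ∈ normalizer (T : Set Suz) := hk ▸ mul_mem (le_normalizer hs) (pow_mem w_normalizer k)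
  have h2 := (T₀.isPGroup'.map ph.toMonoidHom).inf_normalizer_sylow T₀
  have h3 : ph t ∈ (T₀ : Subgroup Suz).map ph.toMonoidHom ⊓ normalizer ((T₀ : Subgroup Suz) : Set Suz) :=
    ⟨⟨t, ht, rfl⟩, h1⟩
  exact (h2.le h3).2

/-- a coset of `A2` -/
def l6 : List ℕ := [6, 7, 14, 15, 70, 71, 78, 79]

/-- the coset -/
def S6 : Set Suz := {g | ∃ c ∈ l6, C c = g}

theorem mem_of_act {g : Suz} {l : List ℕ} (h : Act g l) (hl : ∀ c ∈ l6, act BB 6 (img l) c ∈ l6) :
    g ∈ normalizer S6 := by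
  have := SporadicRecognition.SuzOrder.finiteSuz
  refine mem_normalizer_fintype ?_
  rintro _ ⟨c, hc, rfl⟩
  exact ⟨_, hl c hc, (h.conj c).symm⟩

theorem T_le : T ≤ normalizer S6 := by
  rw [Schreier.Suz.T_def, closure_le]
  exact Schreier.Suz.forall_S (mem_of_act act_s1 (by decide +kernel)) (mem_of_act act_s2 (by decide +kernel))
    (mem_of_act act_s3 (by decide +kernel)) (mem_of_act act_s4 (by decide +kernel))

theorem w_not : w ∉ normalizer S6 := by
  intro h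
  obtain ⟨c, hc, e⟩ := (mem_set_normalizer_iff.1 h (C 6)).1 ⟨6, by decide, rfl⟩
  rw [act_w.conj] at e
  have h1 : ∀ c ∈ l6, c < 128 ∧ c ≠ act BB 6 (img l_w) 6 := by decide +kernel
  exact (h1 c hc).2 (C_inj' (h1 c hc).1 (by decide +kernel) e)

private noncomputable def _root_.Cfsg.Agent.LsF.f8773e2_0 : {f // @Cfsg.Agent.LargeExtra.Model.xs = f} := ⟨_, by first | (delta Cfsg.Agent.LargeExtra.Model.xs Cfsg.Agent.LargeExtra.Model.xs._f Nat.brecOn.go Nat.brecOn; rewrite [Cfsg.Agent.LsF.bxor_eq]; (try delta Cfsg.Agent.LargeExtra.Model.xs.match_1); (try delta Nat.casesOn); first | dsimp -zeta only | exact rfl) | exact rfl⟩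
private noncomputable def _root_.Cfsg.Agent.LsF.f8773e2_1 : {f // @Cfsg.Agent.LargeExtra.Model.lin = f} := ⟨_, by first | (delta Cfsg.Agent.LargeExtra.Model.lin Nat.brecOn.go Nat.brecOn Cfsg.Agent.LargeExtra.Model.lin._f; rewrite [Cfsg.Agent.LsF.nxor_pat, Cfsg.Agent.LsF.testBit_eq, Cfsg.Agent.LsF.dBoolEq_eq, Cfsg.Agent.LsF.ite_eq]; (try delta Cfsg.Agent.LargeExtra.Model.lin.match_1); (try delta Nat.casesOn); first | dsimp -zeta only | exact rfl) | exact rfl⟩
private noncomputable def _root_.Cfsg.Agent.LsF.f8773e2_2 : {f // @Cfsg.Agent.LargeExtra.Model.bf = f} := ⟨_, by first | (delta Cfsg.Agent.LargeExtra.Model.bf; rewrite [Cfsg.Agent.LsF.f8773e2_0.2, Cfsg.Agent.LsF.f8773e2_1.2, Cfsg.Agent.LsF.and_eq, Cfsg.Agent.LsF.testBit_eq]; exact rfl) | exact rfl⟩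
private noncomputable def _root_.Cfsg.Agent.LsF.f8773e2_3 : {f // @Cfsg.Agent.KFacts.Codes.mulc = f} := ⟨_, by first | (delta Cfsg.Agent.KFacts.Codes.mulc; rewrite [Cfsg.Agent.LsF.f8773e2_2.2, Cfsg.Agent.LsF.npow_pat, Cfsg.Agent.LsF.nxor_pat, Cfsg.Agent.LsF.dBoolEq_eq, Cfsg.Agent.LsF.ite_eq]; exact rfl) | exact rfl⟩
private noncomputable def _root_.Cfsg.Agent.LsF.f8773e2_4 : {f // @Cfsg.Agent.KFacts.Codes.aux = f} := ⟨_, by first | (delta Cfsg.Agent.KFacts.Codes.aux Nat.brecOn.go Nat.brecOn Cfsg.Agent.KFacts.Codes.aux._f; rewrite [Cfsg.Agent.LsF.f8773e2_3.2, Cfsg.Agent.LsF.testBit_eq, Cfsg.Agent.LsF.dBoolEq_eq, Cfsg.Agent.LsF.ite_eq]; (try delta Cfsg.Agent.KFacts.Codes.aux.match_1); (try delta Nat.casesOn); first | dsimp -zeta only | exact rfl) | exact rfl⟩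
private noncomputable def _root_.Cfsg.Agent.LsF.f8773e2_5 : {f // @Cfsg.Agent.KFacts.Codes.act = f} := ⟨_, by first | (delta Cfsg.Agent.KFacts.Codes.act; rewrite [Cfsg.Agent.LsF.f8773e2_4.2, Cfsg.Agent.LsF.npow_pat, Cfsg.Agent.LsF.nxor_pat, Cfsg.Agent.LsF.testBit_eq, Cfsg.Agent.LsF.dBoolEq_eq, Cfsg.Agent.LsF.ite_eq]; exact rfl) | exact rfl⟩
private noncomputable def _root_.Cfsg.Agent.LsF.f8773e2_6 : {f // @Cfsg.Agent.KFacts.SuzR.BB = f} := ⟨_, by first | (delta Cfsg.Agent.KFacts.SuzR.BB; (try delta Cfsg.Agent.KFacts.SuzR.BB.match_1); (try rewrite [Cfsg.Agent.LsF.instDecEq_eq, Cfsg.Agent.LsF.dite_eq]); exact rfl) | exact rfl⟩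
private noncomputable def _root_.Cfsg.Agent.LsF.f8773e2_7 : {f // @Cfsg.Agent.KFacts.Orbits.img = f} := ⟨_, by first | (delta Cfsg.Agent.KFacts.Orbits.img; rewrite [Cfsg.Agent.LsF.getD_eq]; exact rfl) | exact rfl⟩
private noncomputable def _root_.Cfsg.Agent.LsF.f8773e2_8 : {f // @Cfsg.Agent.KFacts.SuzR.II = f} := ⟨_, by first | (delta Cfsg.Agent.KFacts.SuzR.II; (try delta Cfsg.Agent.KFacts.SuzR.iq.match_1); (try rewrite [Cfsg.Agent.LsF.instDecEq_eq, Cfsg.Agent.LsF.dite_eq]); exact rfl) | exact rfl⟩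
private noncomputable def _root_.Cfsg.Agent.LsF.f8773e2_9 : {f // @Cfsg.Agent.KFacts.SuzR.AA = f} := ⟨_, by first | (delta Cfsg.Agent.KFacts.SuzR.AA; rewrite [Cfsg.Agent.LsF.f8773e2_5.2, Cfsg.Agent.LsF.f8773e2_6.2, Cfsg.Agent.LsF.f8773e2_7.2, Cfsg.Agent.LsF.f8773e2_8.2]; exact rfl) | exact rfl⟩
private noncomputable def _root_.Cfsg.Agent.LsF.f8773e2_10 : {f // @Cfsg.Agent.GAL.Spor.Sz.fc = f} := ⟨_, by first | (delta Cfsg.Agent.GAL.Spor.Sz.fc; rewrite [Cfsg.Agent.LsF.f8773e2_9.2, Cfsg.Agent.LsF.f8773e2_5.2, Cfsg.Agent.LsF.f8773e2_6.2, Cfsg.Agent.LsF.f8773e2_7.2]; exact rfl) | exact rfl⟩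
theorem ph_w : ph w * w ∈ T := by
  have := SporadicRecognition.SuzOrder.finiteSuz
  obtain ⟨s, hs, k, hk⟩ := ph_flag w_normalizer
  have h1 : ph w * w ∈ normalizer S6 := by
    refine mem_normalizer_fintype ?_
    rintro _ ⟨c, hc, rfl⟩
    have h2 : ∀ c ∈ l6, ∃ d < 128, fc d = act BB 6 (img l_w) c ∧ fc (act BB 6 (img l_w) d) ∈ l6 := by (refine of_decide_eq_true ?_; (try (rewrite [Cfsg.Agent.LsF.dMemE_pat, Cfsg.Agent.LsF.f8773e2_10.2, Cfsg.Agent.LsF.f8773e2_5.2, Cfsg.Agent.LsF.f8773e2_6.2, Cfsg.Agent.LsF.f8773e2_7.2, Cfsg.Agent.LsF.instDecEq_eq, Cfsg.Agent.LsF.dAnd_eq, Cfsg.Agent.LsF.dBAll_eq, Cfsg.Agent.LsF.dExistsLT_eq, Cfsg.Agent.LsF.decide_eq])); decide +kernel)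
    obtain ⟨d, -, h3, h4⟩ := h2 c hc
    refine ⟨_, h4, ?_⟩
    rw [← ph_C, ← act_w.conj, map_mul, map_mul, map_inv, ph_C, h3, ← act_w.conj]
    group
  rw [hk, mul_assoc, ← pow_succ] at h1 ⊢
  have h2 := (Subgroup.mul_mem_cancel_left _ (T_le hs)).1 h1
  rw [pow_eq_pow_mod _ w3] at h2 ⊢
  have h3 : (k + 1) % 3 = 0 ∨ (k + 1) % 3 = 1 ∨ (k + 1) % 3 = 2 := by omega
  rcases h3 with h3 | h3 | h3 <;> rw [h3] at h2 ⊢
  · rwa [pow_zero, mul_one]
  · exact absurd (pow_one w ▸ h2) w_not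
  · refine absurd ?_ w_not
    rw [show w = (w ^ 2) ^ 2 by rw [← pow_mul, show 2 * 2 = 3 + 1 from rfl, pow_succ, w3, one_mul]]
    exact pow_mem h2 2

theorem cf : CF T₀ := by
  intro y hy ho
  rcases centralizer_R (fun x hx => mem_centralizer_iff.1 hy x (Q0_le_T hx)) with h | h
  · exact h
  · exact eq_one_of_odd_of_mem T₀.isPGroup' (h ▸ Q0_le_T z_mem) ho

theorem not_dg : ¬ DG T₀ := fun h => by
  have ho : Odd (orderOf w) := Odd.of_dvd_nat (by decide : Odd 3) (orderOf_dvd_of_pow_eq_one w3)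
  exact w_ne (cf w (h w w_normalizer ho) ho)

theorem phi : Phi T₀ := by
  have := SporadicRecognition.SuzOrder.finiteSuz
  exact phi_of_inv T₀ KFacts.SuzOut.index_eq w_normalizer w3 w_ne (fun _ hg => exists_of_mem_B (N_le_B hg)) ph
    (fun _ => ph_T) ph_w

theorem box_suz {S : Type} [Group S] [Finite S] [IsSimpleGroup S] (h : IsoSuz S)
    (hF : OddMoved Suz ∧ OddSigAut Suz) : Box S := by
  obtain ⟨e⟩ := h
  have : Finite Suz := Finite.of_equiv _ e.toEquiv
  have : IsSimpleGroup Suz := e.symm.isSimpleGroup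
  exact Box.congr e (box_of_phi (center_bot not_dg) T₀ not_dg cf phi KFacts.SuzOut.index_eq hF.1 hF.2)

end Cfsg.Agent.GAL.Spor.Sz

private theorem dce_ffb9cbf30d44 : _root_.True := by
  try have : _root_.True := by simp only [_root_.Cfsg.Agent.GAL.Spor.Sz.gz.eq_1]
  try have : _root_.True := by simp only [_root_.Cfsg.Agent.GAL.Spor.Sz.ph.eq_1]
  try have : _root_.True := by simp only [_root_.Cfsg.Agent.GAL.Spor.Sz.fc.eq_1]
  exact _root_.True.intro
end
end
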